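import Cfsg.Agent.Fus.NormalCentralizer.Exists
import Cfsg.Agent.Fus.InvariantCompare
import Cfsg.Agent.Eq.Def_FusionSystem

/-!
Normal maps on a strongly closed subgroup `R`: a normal family of automorphism groups of the
`R`-centric subgroups of `R`, from which a saturated invariant subsystem over `R` is generated.
-/

set_option autoImplicit false

namespace CfsgLib.Meet

open Cfsg Cfsg.FusionSystem CfsgLib.Fus CfsgLib.NormalCent

variable {Ω : Type*} [Group Ω] {S R : Subgroup Ω}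

/-- A family `A` of automorphism groups of the `R`-centric subgroups of `R`. -/
structure NormalMap (F : Cfsg.FusionSystem S) (p : ℕ) (R : Subgroup Ω)
    (A : ∀ P : Subgroup Ω, Subgroup (MulAut P)) : Prop where
  saturated : F.IsSaturated p
  closed : F.StronglyClosed R
  le_aut : ∀ P, TCentric F R P → A P ≤ F.autGroup P
  conj : ∀ {P P' : Subgroup Ω} {φ : P →* Ω} (_ : TCentric F R P) (hφ : φ ∈ F.Hom P)
    (hr : φ.range = P'), ∀ a ∈ A P, MulAut.congr (isoOf hφ hr) a ∈ A P'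
  induced_le : ∀ P, TCentric F R P → Cfsg.autInducedBy R P ≤ A P
  sylow : ∀ P, TCentric F R P → F.IsFullyNormalized P →
    ∃ X : Sylow p (A P), (X : Subgroup (A P)) = (Cfsg.autInducedBy R P).subgroupOf (A P)
  extend : ∀ {P K : Subgroup Ω} (_ : TCentric F R P) (_ : F.IsFullyNormalized P) (hPK : P ≤ K)
    (_ : K ≤ normalizerIn R P) (b : MulAut P), b ∈ A P → (orderOf b).Coprime p →
    (∀ g ∈ K, ∃ h ∈ K, ∀ x : P, ∀ hx : g * (x : Ω) * g⁻¹ ∈ P,
      ((b ⟨g * (x : Ω) * g⁻¹, hx⟩ : P) : Ω) = h * ((b x : P) : Ω) * h⁻¹) →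
    ∃ a ∈ A K, ∀ x : P, ((a (Subgroup.inclusion hPK x) : K) : Ω) = ((b x : P) : Ω)
  top_lift : ∀ a ∈ A R, LiftsQ F R a

end CfsgLib.Meet
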