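import Cfsg.Agent.Fus.Meet.Map
import Cfsg.Agent.Fus.Meet.Axioms

/-!
`p'`-elements of the family extend to the subgroups they normalize, and the family is a normal map.
-/

set_option autoImplicit false

namespace CfsgLib.Meet

open Cfsg Cfsg.FusionSystem CfsgLib.Fus CfsgLib.NormalCent

variable {Ω : Type*} [Group Ω] {S T T₁ T₂ P K : Subgroup Ω} {F : Cfsg.FusionSystem S}
  {E₁ : Cfsg.FusionSystem T₁} {E₂ : Cfsg.FusionSystem T₂} {p : ℕ}

theorem tcentric_mono [Finite S] {R : Subgroup Ω} (hP : TCentric F R P) (hPK : P ≤ K) (hK : K ≤ R) :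
    TCentric F R K :=
  ⟨hK, fun f hf c hc hcomm => by
    obtain ⟨x, hx, hxc⟩ := hP.2 f (hf.restrict hPK) c hc fun x hx => hcomm x (hPK hx)
    exact ⟨x, hPK hx, hxc⟩⟩

variable [Finite S] [Fact p.Prime]

/-- A `p'`-element of `core'` is a `p'`-element of `amap₀`, and conversely. -/
theorem Setting.mem_core_of_coprime (G : Setting F E₁ E₂ p) (hS : IsPGroup p S)
    (hP : TCentric F (T₁ ⊓ T₂) P) (hn : F.IsFullyNormalized P) {b : MulAut P}
    (hb : b ∈ amap p F E₁ E₂ P) (hco : (orderOf b).Coprime p) : b ∈ core' p F E₁ E₂ P := by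
  have := finite_of_le hn.1
  have := finite_mulAut P
  have hc := fullyCentralized_of_fullyNormalized hS G.hF hn
  set N := (core' p F E₁ E₂ P).subgroupOf (amap p F E₁ E₂ P) with hN
  have hNn : N.Normal := by
    refine ⟨fun z hz y => ?_⟩
    have hy := G.amap_le_aut hS hP y.2
    have hh := (mem_autGroup_iff F hn.1).1 hy
    have h1 := G.core_congr hS hP.1 hc hh (range_subtype_comp _) hc hz
    rw [Subgroup.mem_comap] at h1
    change MulAut.congr _ _ ∈ _ at h1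
    rw [Fusion.Alperin.congr_subtype_comp hh] at h1
    exact h1
  set R : Subgroup (amap p F E₁ E₂ P) :=
    (Cfsg.autInducedBy (T₁ ⊓ T₂) P).subgroupOf (amap p F E₁ E₂ P) with hR
  have htop : R ⊔ N = ⊤ := by
    have h0 : Cfsg.autInducedBy (T₁ ⊓ T₂) P ⊔ core' p F E₁ E₂ P = amap p F E₁ E₂ P :=
      (G.amap_eq hS hP hn).symm
    rw [hR, hN, ← Subgroup.subgroupOf_sup (h0 ▸ le_sup_left) (h0 ▸ le_sup_right), h0,
      Subgroup.subgroupOf_self]
  have h1 : (⟨b, hb⟩ : amap p F E₁ E₂ P) ∈ (↑(R ⊔ N) : Set (amap p F E₁ E₂ P)) := by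
    rw [htop]; exact Subgroup.mem_top _
  rw [Subgroup.mul_normal] at h1
  obtain ⟨r, hr, c, hc', hrc⟩ := Set.mem_mul.1 h1
  obtain ⟨k, hk⟩ := ((isPGroup_autInducedBy (hS.to_le G.closed.1) P).comap_of_injective _
    (Subgroup.subtype_injective _) : IsPGroup p R) ⟨r, hr⟩
  have hk' : r ^ p ^ k = 1 := congrArg Subtype.val hk
  have h2 : QuotientGroup.mk' N ⟨b, hb⟩ = QuotientGroup.mk' N r := by
    rw [← hrc, map_mul, show QuotientGroup.mk' N c = 1 from
      (QuotientGroup.eq_one_iff c).2 hc', mul_one]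
  have h3 : orderOf (QuotientGroup.mk' N ⟨b, hb⟩) = 1 := by
    refine Nat.eq_one_of_dvd_coprimes (hco.pow_right k) ?_ ?_
    · exact (orderOf_map_dvd _ _).trans (by rw [Subgroup.orderOf_mk])
    · exact orderOf_dvd_of_pow_eq_one (by rw [h2, ← map_pow, hk', map_one])
  exact (QuotientGroup.eq_one_iff (⟨b, hb⟩ : amap p F E₁ E₂ P)).1 (orderOf_eq_one_iff.1 h3)

/-- An automorphism of `K` of order prime to `p` whose restriction to a fully normalized `P` lies in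
a weakly normal subsystem lies in it, for `K` inside `R`, a strongly closed subgroup meeting the
centralizers of `P` in `P`. -/
theorem mem_autGroup_of_restrict (hS : IsPGroup p S) {E : Cfsg.FusionSystem T}
    (hE : E.IsWeaklyNormalIn F p) {R : Subgroup Ω} (hR : F.StronglyClosed R) (hRT : R ≤ T)
    (hP : TCentric F R P) (hn : F.IsFullyNormalized P) (hPK : P ≤ K) (hK : K ≤ normalizerIn R P)
    {b : MulAut P} (hb : b ∈ E.autGroup P) {a : MulAut K} (ha : a ∈ F.autGroup K)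
    (hco : (orderOf a).Coprime p)
    (hab : ∀ x : P, ((a (Subgroup.inclusion hPK x) : K) : Ω) = ((b x : P) : Ω))
    (hext : ∀ g ∈ K, ∃ h ∈ K, ∀ x : P, ∀ hx : g * (x : Ω) * g⁻¹ ∈ P,
      ((b ⟨g * (x : Ω) * g⁻¹, hx⟩ : P) : Ω) = h * ((b x : P) : Ω) * h⁻¹) :
    a ∈ E.autGroup K := by
  obtain ⟨hEs, hF, hsub, hT, hinv⟩ := id hE
  have hKR : K ≤ R := fun x hx => (hK hx).1
  have hKT : K ≤ T := hKR.trans hRT
  have hPT : P ≤ T := hPK.trans hKT
  have hKS : K ≤ S := hKR.trans hR.1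
  have : Finite T := finite_of_le hT.1
  have := finite_of_le hKS
  have := finite_mulAut K
  obtain ⟨-, hrec⟩ := fullyNormalized_props (hS.to_le hT.1) hEs
    (fullyNormalized_sub hS hF hT hsub hPT hn)
  obtain ⟨σ, hσ, hσe, hσi⟩ := exists_mor_of_aut hPT (⟨b, hb⟩ : E.autGroup P)
  obtain ⟨χ, hχ, hχe⟩ := hσ.exists_ext hσi hrec hPK
    (fun g hg => ⟨hKT hg, (hK hg).2⟩) fun g hg => by
      obtain ⟨h, hh, hhe⟩ := hext g hg
      refine ⟨h, hKT hh, fun x hx => ?_⟩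
      rw [show σ (g * x * g⁻¹) = _ from hσe ⟨_, conj_mem_of_normalizer (hK hg).2 hx⟩,
        show σ x = _ from hσe ⟨x, hx⟩]
      exact hhe ⟨x, hx⟩ _
  have hχF : Mor F K χ := Comp89.mor_mono hsub hχ
  have hχP : ∀ x : P, χ x = ((b x : P) : Ω) := fun x => (hχe x x.2).trans (hσe x)
  have hχK : ∀ g ∈ K, χ g ∈ K := by
    intro g hg
    obtain ⟨h, hh, hhe⟩ := hext g hg
    have hy : h⁻¹ * χ g ∈ centralizerIn R P := by
      refine ⟨R.mul_mem (R.inv_mem (hKR hh)) (Comp89.mor_mem_closed hR hχF hg (hKR hg)),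
        fun y hy => ?_⟩
      obtain ⟨x, hx⟩ := b.surjective ⟨y, hy⟩
      have hxb : ((b x : P) : Ω) = y := congrArg Subtype.val hx
      have h1 := hhe x (conj_mem_of_normalizer (hK hg).2 x.2)
      rw [← hχP, ← hχP] at h1
      rw [hχF.map_conj hg (hPK x.2), hχP x, hxb] at h1
      calc y * (h⁻¹ * χ g) = h⁻¹ * (h * y * h⁻¹) * χ g := by group
        _ = h⁻¹ * (χ g * y * (χ g)⁻¹) * χ g := by rw [h1]
        _ = h⁻¹ * χ g * y := by group
    rw [← mul_inv_cancel_left h (χ g)]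
    exact K.mul_mem hh (hPK (tcentric_id hP hR.1 hy))
  obtain ⟨⟨e, he⟩, hee⟩ := exists_aut_of_mor hχ (image_eq hχ hχK)
  set d := e⁻¹ * a with hd
  have heP : ∀ x : P, ((e (Subgroup.inclusion hPK x) : K) : Ω) = ((b x : P) : Ω) :=
    fun x => (hee _).trans (hχP x)
  have hdP : ∀ x : P, d (Subgroup.inclusion hPK x) = Subgroup.inclusion hPK x := fun x => by
    show e⁻¹ (a (Subgroup.inclusion hPK x)) = _
    rw [show a (Subgroup.inclusion hPK x) = e (Subgroup.inclusion hPK x) from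
      Subtype.ext ((hab x).trans (heP x).symm), MulAut.inv_apply_self]
  have hdK : ∀ g : K, ((g⁻¹ * d g : K) : Ω) ∈ P := by
    intro g
    obtain ⟨h, hh, hhe⟩ := hext g g.2
    have hy : ∀ u : MulAut K,
        (∀ x : P, ((u (Subgroup.inclusion hPK x) : K) : Ω) = ((b x : P) : Ω)) →
        h⁻¹ * ((u g : K) : Ω) ∈ P := by
      intro u hu
      refine tcentric_id hP hR.1 ⟨R.mul_mem (R.inv_mem (hKR hh)) (hKR (u g).2), fun y hy => ?_⟩
      obtain ⟨x, hx⟩ := b.surjective ⟨y, hy⟩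
      have hxb : ((b x : P) : Ω) = y := congrArg Subtype.val hx
      have h1 := hhe x (conj_mem_of_normalizer (hK g.2).2 x.2)
      rw [← hu, ← hu, hu x, hxb] at h1
      have h2 : ((u (Subgroup.inclusion hPK ⟨(g : Ω) * x * (g : Ω)⁻¹,
          conj_mem_of_normalizer (hK g.2).2 x.2⟩) : K) : Ω) =
          ((u g : K) : Ω) * y * ((u g : K) : Ω)⁻¹ := by
        rw [show Subgroup.inclusion hPK ⟨(g : Ω) * x * (g : Ω)⁻¹,
            conj_mem_of_normalizer (hK g.2).2 x.2⟩ = g * Subgroup.inclusion hPK x * g⁻¹ from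
          Subtype.ext rfl, map_mul, map_mul, map_inv, Subgroup.coe_mul, Subgroup.coe_mul,
          Subgroup.coe_inv, hu x, hxb]
      rw [h2] at h1
      calc y * (h⁻¹ * ((u g : K) : Ω)) = h⁻¹ * (h * y * h⁻¹) * ((u g : K) : Ω) := by group
        _ = h⁻¹ * (((u g : K) : Ω) * y * ((u g : K) : Ω)⁻¹) * ((u g : K) : Ω) := by rw [h1]
        _ = h⁻¹ * ((u g : K) : Ω) * y := by group
    have h3 := P.mul_mem (P.inv_mem (hy e heP)) (hy a hab)
    obtain ⟨z, hz⟩ : ∃ z : P, (z : Ω) = ((e g : K) : Ω)⁻¹ * ((a g : K) : Ω) :=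
      ⟨⟨_, by rw [mul_inv_rev, inv_inv, mul_assoc, mul_inv_cancel_left] at h3; exact h3⟩, rfl⟩
    obtain ⟨w, hw⟩ := b.surjective z
    have h4 : a g = e g * e (Subgroup.inclusion hPK w) := Subtype.ext (by
      rw [Subgroup.coe_mul, heP, hw, hz, mul_inv_cancel_left])
    have h5 : d g = g * Subgroup.inclusion hPK w := by
      show e⁻¹ (a g) = _
      rw [h4, ← map_mul, MulAut.inv_apply_self]
    rw [h5, inv_mul_cancel_left]
    exact w.2
  have hdp : ∃ j : ℕ, d ^ p ^ j = 1 := by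
    obtain ⟨m, hm⟩ := IsPGroup.iff_card.1 (hS.to_le hKS)
    refine ⟨m, MulEquiv.ext fun g => ?_⟩
    obtain ⟨w, hw⟩ : ∃ w : P, g⁻¹ * d g = Subgroup.inclusion hPK w :=
      ⟨⟨_, hdK g⟩, Subtype.ext rfl⟩
    have key : ∀ i : ℕ, (d ^ i) g = g * (Subgroup.inclusion hPK w) ^ i := by
      intro i
      induction i with
      | zero => simp
      | succ i ih =>
        rw [pow_succ', MulAut.mul_apply, ih, map_mul, map_pow, hdP w,
          show d g = g * Subgroup.inclusion hPK w by rw [← hw, mul_inv_cancel_left], mul_assoc,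
          pow_succ']
    rw [key, ← hm, pow_card_eq_one', mul_one]
    rfl
  have hN : ∀ u ∈ F.autGroup K, ∀ z ∈ E.autGroup K, u * z * u⁻¹ ∈ E.autGroup K := by
    intro u hu z hz
    have hh := (mem_autGroup_iff F hKS).1 hu
    have h1 := NormalOverSylow.congr_mem_of_invariant hE.2.2 hKT hh (range_subtype_comp u) hz
    rwa [Fusion.Alperin.congr_subtype_comp hh] at h1
  set N := (E.autGroup K).subgroupOf (F.autGroup K)
  have hNn : N.Normal := ⟨fun z hz u => hN u u.2 z hz⟩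
  have hdF : d ∈ F.autGroup K := mul_mem (inv_mem (autGroup_mono hsub K he)) ha
  obtain ⟨j, hj⟩ := hdp
  have hq : QuotientGroup.mk' N (⟨a, ha⟩ : F.autGroup K) =
      QuotientGroup.mk' N (⟨d, hdF⟩ : F.autGroup K) := by
    rw [QuotientGroup.mk'_apply, QuotientGroup.mk'_apply, QuotientGroup.eq]
    show a⁻¹ * d ∈ E.autGroup K
    have h1 := hN a⁻¹ (inv_mem ha) e⁻¹ (inv_mem he)
    rw [inv_inv] at h1
    rwa [hd, ← mul_assoc]
  have h3 : orderOf (QuotientGroup.mk' N (⟨a, ha⟩ : F.autGroup K)) = 1 := by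
    refine Nat.eq_one_of_dvd_coprimes (hco.pow_right j) ?_ ?_
    · exact (orderOf_map_dvd _ _).trans (by rw [Subgroup.orderOf_mk])
    · exact orderOf_dvd_of_pow_eq_one (by
        rw [hq, ← map_pow, show (⟨d, hdF⟩ : F.autGroup K) ^ p ^ j = 1 from Subtype.ext hj, map_one])
  exact (QuotientGroup.eq_one_iff (⟨a, ha⟩ : F.autGroup K)).1 (orderOf_eq_one_iff.1 h3)

/-- The extension for a fully centralized overgroup. -/
theorem Setting.extend_core (G : Setting F E₁ E₂ p) (hS : IsPGroup p S)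
    (hP : TCentric F (T₁ ⊓ T₂) P) (hn : F.IsFullyNormalized P) (hPK : P ≤ K)
    (hK : K ≤ normalizerIn (T₁ ⊓ T₂) P) (hKc : F.IsFullyCentralized K) {b : MulAut P}
    (hb : b ∈ amap p F E₁ E₂ P) (hco : (orderOf b).Coprime p)
    (hext : ∀ g ∈ K, ∃ h ∈ K, ∀ x : P, ∀ hx : g * (x : Ω) * g⁻¹ ∈ P,
      ((b ⟨g * (x : Ω) * g⁻¹, hx⟩ : P) : Ω) = h * ((b x : P) : Ω) * h⁻¹) :
    ∃ a ∈ amap p F E₁ E₂ K, ∀ x : P,
      ((a (Subgroup.inclusion hPK x) : K) : Ω) = ((b x : P) : Ω) := by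
  have hF := G.hF
  have hR := G.closed
  have hPc := fullyCentralized_of_fullyNormalized hS hF hn
  set C := centralizerIn S P with hC
  set W := P ⊔ C with hW
  have hWS : W ≤ S := sup_le hn.1 (centralizerIn_le P)
  have hKR : K ≤ T₁ ⊓ T₂ := fun x hx => (hK hx).1
  have hKS : K ≤ S := hKR.trans hR.1
  have hKN : K ≤ normalizerIn S P := fun x hx => ⟨hKS hx, (hK hx).2⟩
  obtain ⟨hbI, f, hf, hfb, hfc⟩ := (mem_liftGroup_iff hn.1).1
    (core'_le (G.mem_core_of_coprime hS hP hn hb hco))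
  have := finite_of_le hWS
  have := finite_mulAut W
  have := finite_of_le hKS
  have := finite_mulAut K
  have hfm := LiftsQ.mapsTo hf hfb hfc
  obtain ⟨f', hf', hf'l, hf'r, hf'i⟩ := hf.exists_inv (image_eq hf hfm)
  have hf'm : ∀ x ∈ W, f' x ∈ W := fun x hx => hf'i.subset ⟨x, hx, rfl⟩
  have hfP : f '' (P : Set Ω) = P := by
    have : Finite P := finite_of_le hn.1
    exact image_eq (hf.restrict le_sup_left) fun x hx => hfb ⟨x, hx⟩ ▸ (b ⟨x, hx⟩).2
  have hfC : ∀ c ∈ C, f c ∈ C := fun c hc =>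
    map_centralizerIn hf le_sup_left hfP (Subgroup.mem_sup_right hc) hc
  have hWN : ∀ g ∈ normalizerIn S P, ∀ w ∈ W, g * w * g⁻¹ ∈ W := fun g hg w hw =>
    conj_mem_of_normalizer (normalizer_sup hg) hw
  have key : ∀ g ∈ K, ∃ t ∈ S, ∀ w ∈ W, f (g * w * g⁻¹) = t * f w * t⁻¹ := by
    intro g hg
    obtain ⟨h, hh, hhe⟩ := hext g hg
    set χ : Ω → Ω := fun w => h⁻¹ * f (g * f' w * g⁻¹) * h with hχdef
    have hgm : Mor F W (fun w => g * f' w * g⁻¹) :=
      hf'.comp (mor_conj hWS (hKS hg)) hf'm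
    have hχ : Mor F W χ := by
      have h2 := (hgm.comp hf fun x hx => hWN g (hKN hg) _ (hf'm x hx)).comp
        (mor_conj (N := W) hWS (S.inv_mem (hKS hh)))
        fun x hx => hfm _ (hWN g (hKN hg) _ (hf'm x hx))
      refine h2.congr fun x _ => ?_
      simp [hχdef, Function.comp]
    have hχP : ∀ x ∈ P, χ x = x := by
      intro x hx
      obtain ⟨y, hy⟩ := b.surjective ⟨x, hx⟩
      have hxy : f y = x := (hfb y).trans (congrArg Subtype.val hy)
      have h1 : f' x = y := by rw [← hxy, hf'l _ (Subgroup.mem_sup_left y.2)]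
      have h2 := hhe y (conj_mem_of_normalizer (hK hg).2 y.2)
      rw [← hfb, ← hfb, hxy] at h2
      show h⁻¹ * f (g * f' x * g⁻¹) * h = x
      rw [h1, show f (g * (y : Ω) * g⁻¹) = h * x * h⁻¹ from h2]
      group
    have hχC : ∀ c ∈ C, c⁻¹ * χ c ∈ P := by
      intro c hc
      have hd : ∀ {k : Ω}, k ∈ K → ∀ c ∈ C, c⁻¹ * (k * c * k⁻¹) ∈ P := fun {k} hk c hc => by
        have hT : c⁻¹ * (k * c * k⁻¹) ∈ T₁ ⊓ T₂ := by
          have h3 : c⁻¹ * (k * c * k⁻¹) = c⁻¹ * k * c⁻¹⁻¹ * k⁻¹ := by group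
          rw [h3]
          exact mul_mem (hR.2 (T₁ ⊓ T₂) le_rfl _ (F.conj_mem hR.1 (S.inv_mem hc.1))
            ⟨k, hKR hk⟩) (inv_mem (hKR hk))
        exact tcentric_id hP hR.1 ⟨hT, (Subgroup.mul_mem (centralizerIn S P)
          (Subgroup.inv_mem _ hc) (le_normalizer_centralizerIn (hKN hk) hc)).2⟩
      have hcW : c ∈ W := Subgroup.mem_sup_right hc
      have hf'C : f' c ∈ C := by
        have hPW : f' '' (P : Set Ω) = P := by
          conv_lhs => rw [← hfP]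
          rw [Set.image_image]
          ext z
          constructor
          · rintro ⟨y, hy, rfl⟩
            show f' (f y) ∈ P
            rw [hf'l y (Subgroup.mem_sup_left hy)]; exact hy
          · intro hz; exact ⟨z, hz, hf'l z (Subgroup.mem_sup_left hz)⟩
        exact map_centralizerIn hf' le_sup_left hPW hcW hc
      set c₀ := f' c
      obtain ⟨q, hq, hqe⟩ : ∃ q ∈ P, g * c₀ * g⁻¹ = c₀ * q :=
        ⟨_, hd hg c₀ hf'C, (mul_inv_cancel_left _ _).symm⟩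
      show c⁻¹ * (h⁻¹ * f (g * c₀ * g⁻¹) * h) ∈ P
      rw [hqe, hf.map_mul (Subgroup.mem_sup_right hf'C) (Subgroup.mem_sup_left hq), hf'r c hcW]
      have h1 := hd (K.inv_mem hh) c hc
      have h2 : c⁻¹ * (h⁻¹ * (c * f q) * h) = c⁻¹ * (h⁻¹ * c * h⁻¹⁻¹) * (h⁻¹ * f q * h) := by group
      rw [h2]
      refine P.mul_mem h1 ?_
      have := conj_mem_of_normalizer (Subgroup.inv_mem _ (hK hh).2) (hfP.subset ⟨q, hq, rfl⟩)
      rwa [inv_inv] at this
    obtain ⟨m, hm⟩ := IsPGroup.iff_card.1 hS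
    have hper : ∀ x ∈ W, χ^[p ^ m] x = x := by
      intro x hx
      let Fx : Subgroup Ω := fixedBy (mor_iterate hχ (fun y hy => by
        refine mem_of_sup hχ le_rfl (fun z hz => Subgroup.mem_sup_left ((hχP z hz).symm ▸ hz))
          (fun z hz => ?_) hy
        rw [← mul_inv_cancel_left z (χ z)]
        exact Subgroup.mul_mem _ (Subgroup.mem_sup_right hz)
          (Subgroup.mem_sup_left (hχC z hz))) (p ^ m)).1
      refine ((sup_le (fun z hz => ?_) (fun z hz => ?_) : W ≤ Fx) hx).2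
      · refine ⟨Subgroup.mem_sup_left hz, ?_⟩
        exact Function.iterate_fixed (hχP z hz) _
      · refine ⟨Subgroup.mem_sup_right hz, ?_⟩
        have hz' := hχC z hz
        rw [iterate_mul_fixed hχ (Subgroup.mem_sup_right hz) (Subgroup.mem_sup_left hz')
          (mul_inv_cancel_left z (χ z)).symm (hχP _ hz')]
        have h1 : (⟨z⁻¹ * χ z, hn.1 hz'⟩ : S) ^ p ^ m = 1 := by rw [← hm]; exact pow_card_eq_one'
        have h2 : (z⁻¹ * χ z) ^ p ^ m = 1 := congrArg Subtype.val h1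
        rw [h2, mul_one]
    obtain ⟨c, hc, hce⟩ := exists_cent_of_pElement hS hF hPc hχ hχP hper
    refine ⟨h * c, S.mul_mem (hKS hh) hc.1, fun w hw => ?_⟩
    have h1 := hce (f w) (hfm w hw)
    rw [hχdef] at h1
    simp only [hf'l w hw] at h1
    calc f (g * w * g⁻¹) = h * (h⁻¹ * f (g * w * g⁻¹) * h) * h⁻¹ := by group
      _ = _ := by rw [h1]; group
  set L := K ⊔ C with hL
  have hWL : W ≤ L := sup_le (hPK.trans le_sup_left) le_sup_right
  have hLN : L ≤ normalizerIn S W := sup_le (fun g hg => ⟨hKS hg, normalizer_sup (hKN hg)⟩)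
    fun c hc => ⟨hc.1, normalizer_sup (centralizerIn_le_normalizerIn P hc)⟩
  obtain ⟨ψ, hψ, hψe⟩ := hf.exists_ext (image_eq hf hfm) (receptive_sup hS hF hPc) hWL hLN
    fun l hl => by
      have hl' : l ∈ Subgroup.closure ((K : Set Ω) ∪ (C : Set Ω)) := by
        rwa [Subgroup.closure_union, Subgroup.closure_eq, Subgroup.closure_eq]
      refine (Subgroup.closure_induction (p := fun l _ => l ∈ normalizerIn S P ∧
        ∃ t ∈ S, ∀ x ∈ W, f (l * x * l⁻¹) = t * f x * t⁻¹) ?_ ?_ ?_ ?_ hl').2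
      · rintro l (hlK | hlC)
        · exact ⟨hKN hlK, key l hlK⟩
        · refine ⟨centralizerIn_le_normalizerIn P hlC, f l, hf.mem (Subgroup.mem_sup_right hlC),
            fun x hx => hf.map_conj (Subgroup.mem_sup_right hlC) hx⟩
      · exact ⟨one_mem _, 1, S.one_mem, fun x _ => by simp⟩
      · rintro u v - - ⟨hu, s, hs, hse⟩ ⟨hv, r, hr', hre⟩
        refine ⟨mul_mem hu hv, s * r, S.mul_mem hs hr', fun x hx => ?_⟩
        have h1 := hse _ (hWN v hv x hx)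
        rw [hre x hx] at h1
        rw [show u * v * x * (u * v)⁻¹ = u * (v * x * v⁻¹) * u⁻¹ by group, h1]
        group
      · rintro u - ⟨hu, s, hs, hse⟩
        refine ⟨inv_mem hu, s⁻¹, S.inv_mem hs, fun x hx => ?_⟩
        have h1 := hse _ (hWN u⁻¹ (inv_mem hu) x hx)
        rw [show u * (u⁻¹ * x * u⁻¹⁻¹) * u⁻¹ = x by group] at h1
        rw [h1]
        group
  have hψb : ∀ x : P, ψ x = ((b x : P) : Ω) := fun x =>
    (hψe x (Subgroup.mem_sup_left x.2)).trans (hfb x)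
  have hψK : ∀ g ∈ K, ψ g ∈ K := by
    intro g hg
    obtain ⟨h, hh, hhe⟩ := hext g hg
    have hy : h⁻¹ * ψ g ∈ centralizerIn (T₁ ⊓ T₂) P := by
      refine ⟨(T₁ ⊓ T₂).mul_mem ((T₁ ⊓ T₂).inv_mem (hKR hh))
        (Comp89.mor_mem_closed hR hψ (Subgroup.mem_sup_left hg) (hKR hg)), fun y hy => ?_⟩
      obtain ⟨x, hx⟩ := b.surjective ⟨y, hy⟩
      have hxb : ((b x : P) : Ω) = y := congrArg Subtype.val hx
      have h1 := hhe x (conj_mem_of_normalizer (hK hg).2 x.2)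
      rw [← hψb, ← hψb] at h1
      rw [hψ.map_conj (Subgroup.mem_sup_left hg) (hWL (Subgroup.mem_sup_left x.2)), hψb x, hxb]
        at h1
      calc y * (h⁻¹ * ψ g) = h⁻¹ * (h * y * h⁻¹) * ψ g := by group
        _ = h⁻¹ * (ψ g * y * (ψ g)⁻¹) * ψ g := by rw [h1]
        _ = h⁻¹ * ψ g * y := by group
    rw [← mul_inv_cancel_left h (ψ g)]
    exact K.mul_mem hh (hPK (tcentric_id hP hR.1 hy))
  obtain ⟨⟨β, hβF⟩, hβ⟩ := exists_aut hψ le_sup_left hψK
  obtain ⟨k, n, -, hn', hβn, hk⟩ := exists_coprime_exponent (p := p) β hco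
  set a := β ^ k with ha
  have haco : (orderOf a).Coprime p := hn'.coprime_dvd_left (orderOf_dvd_of_pow_eq_one hβn)
  have haF : a ∈ F.autGroup K := pow_mem hβF k
  have hbk : b ^ k = b := hk b rfl
  have hKm : ∀ x ∈ L, ψ x ∈ L := fun x hx => mem_of_sup hψ le_rfl
    (fun y hy => Subgroup.mem_sup_left (hψK y hy))
    (fun y hy => Subgroup.mem_sup_right (by
      rw [hψe y (Subgroup.mem_sup_right hy)]; exact hfC y hy)) hx
  obtain ⟨hψk, -⟩ := mor_iterate hψ hKm k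
  have hψkK : ∀ x : K, ψ^[k] x = ((a x : K) : Ω) := fun x =>
    iterate_eq_aut (fun y => (hβ y).symm) k x
  have haP : ∀ x : P, ((a (Subgroup.inclusion hPK x) : K) : Ω) = ((b x : P) : Ω) := fun x => by
    have h1 : ψ^[k] (x : Ω) = _ := hψkK (Subgroup.inclusion hPK x)
    rw [← h1, iterate_eq_aut hψb k x, hbk]
  have hCK : centralizerIn S K ≤ C := centralizerIn_antitone hPK
  have hlift : LiftsQ F K a := by
    refine ⟨ψ^[k], hψk.restrict (sup_le le_sup_left (hCK.trans le_sup_right)), hψkK,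
      fun c hc => hPK ?_⟩
    have h2 : ∀ i : ℕ, f^[i] c ∈ C ∧ c⁻¹ * f^[i] c ∈ P ∧ ψ^[i] c = f^[i] c := by
      intro i
      induction i with
      | zero => simp [hCK hc]
      | succ i ih =>
        obtain ⟨h1, h2, h3⟩ := ih
        rw [Function.iterate_succ_apply', Function.iterate_succ_apply', h3]
        refine ⟨hfC _ h1, ?_, hψe _ (Subgroup.mem_sup_right h1)⟩
        have e : f (f^[i] c) = f c * f (c⁻¹ * f^[i] c) := by
          rw [← hf.map_mul (Subgroup.mem_sup_right (hCK hc)) (Subgroup.mem_sup_left h2),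
            mul_inv_cancel_left]
        rw [e, ← mul_assoc]
        exact P.mul_mem (hfc c (hCK hc)) (hfP.subset ⟨_, h2, rfl⟩)
    rw [(h2 k).2.2]
    exact (h2 k).2.1
  have hI : a ∈ common E₁ E₂ K :=
    ⟨mem_autGroup_of_restrict hS G.w₁ hR inf_le_left hP hn hPK hK hbI.1 haF haco haP hext,
      mem_autGroup_of_restrict hS G.w₂ hR inf_le_right hP hn hPK hK hbI.2 haF haco haP hext⟩
  have hacore := mem_core' ((mem_liftGroup_iff (F := F) hKS).2 ⟨hI, hlift⟩) haco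
  refine ⟨a, mem_amap.2 fun K' φ hφ hr hK' => Subgroup.mem_sup_right ?_, haP⟩
  exact G.core_congr hS hKR hKc hφ hr (fullyCentralized_of_fullyNormalized hS hF hK') hacore

/-- The extension. -/
theorem Setting.amap_extend (G : Setting F E₁ E₂ p) (hS : IsPGroup p S)
    (hP : TCentric F (T₁ ⊓ T₂) P) (hn : F.IsFullyNormalized P) (hPK : P ≤ K)
    (hK : K ≤ normalizerIn (T₁ ⊓ T₂) P) {b : MulAut P} (hb : b ∈ amap p F E₁ E₂ P)
    (hco : (orderOf b).Coprime p)
    (hext : ∀ g ∈ K, ∃ h ∈ K, ∀ x : P, ∀ hx : g * (x : Ω) * g⁻¹ ∈ P,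
      ((b ⟨g * (x : Ω) * g⁻¹, hx⟩ : P) : Ω) = h * ((b x : P) : Ω) * h⁻¹) :
    ∃ a ∈ amap p F E₁ E₂ K, ∀ x : P,
      ((a (Subgroup.inclusion hPK x) : K) : Ω) = ((b x : P) : Ω) := by
  have hF := G.hF
  have hR := G.closed
  have hKS : K ≤ S := fun x hx => hR.1 (hK hx).1
  have : Finite K := finite_of_le hKS
  have : Finite P := finite_of_le hn.1
  obtain ⟨K₀, hKK₀, hK₀⟩ := exists_fullyNormalized F hKS
  obtain ⟨g₀, hg₀, hg₀i⟩ := exists_mor_of_isConj hKK₀
  obtain ⟨P₀, hP₀, -⟩ := hg₀.exists_img hPK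
  have hPP₀ : F.IsConj P P₀ := (hg₀.restrict hPK).isConj hP₀
  obtain ⟨φ, -, hφr, ψ, hψ, hψe⟩ := exists_normalizer_map_fn hS hF hn (isConj_symm hPP₀)
  obtain ⟨γ, hγ, hγe⟩ := exists_mor hψ
  have hP₀S := isConj_le_right hPP₀
  have hP₀N : P₀ ≤ normalizerIn S P₀ := le_normalizerIn hP₀S
  have hγP : γ '' (P₀ : Set Ω) = P := by
    rw [← hφr]
    ext y
    constructor
    · rintro ⟨x, hx, rfl⟩
      exact ⟨⟨x, hx⟩, ((hγe ⟨x, hP₀N hx⟩).trans (hψe ⟨x, hx⟩ (hP₀N hx))).symm⟩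
    · rintro ⟨x, rfl⟩; exact ⟨x, x.2, (hγe ⟨x, hP₀N x.2⟩).trans (hψe x (hP₀N x.2))⟩
  have hK₀N : K₀ ≤ normalizerIn S P₀ := by
    intro y hy
    obtain ⟨x, hx, rfl⟩ := hg₀i.symm.subset hy
    exact hg₀.map_normalizer hPK hP₀ hx (hK hx).2
  have hP₀K₀ : P₀ ≤ K₀ := fun y hy => hg₀i.subset (Set.image_mono hPK (hP₀.symm.subset hy))
  have hCK₀ : centralizerIn S K₀ ≤ normalizerIn S P₀ :=
    (centralizerIn_antitone hP₀K₀).trans (centralizerIn_le_normalizerIn P₀)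
  obtain ⟨K₁, hK₁, -⟩ := hγ.exists_img hK₀N
  obtain ⟨-, hK₁c⟩ := image_centralizer (fullyCentralized_of_fullyNormalized hS hF hK₀) hγ hK₀N
    hCK₀ hK₁
  set θ := γ ∘ g₀ with hθ
  have hθm : Mor F K θ := hg₀.comp hγ fun x hx => hK₀N (hg₀i.subset ⟨x, hx, rfl⟩)
  have hθK : θ '' (K : Set Ω) = K₁ := by rw [hθ, Set.image_comp, hg₀i, hK₁]
  have hθP : θ '' (P : Set Ω) = P := by rw [hθ, Set.image_comp, hP₀, hγP]
  have hθmem : ∀ x ∈ P, θ x ∈ P := fun x hx => hθP.subset ⟨x, hx, rfl⟩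
  have hPK₁ : P ≤ K₁ := fun y hy => hθK.subset (Set.image_mono hPK (hθP.symm.subset hy))
  have hK₁N : K₁ ≤ normalizerIn (T₁ ⊓ T₂) P := by
    intro y hy
    obtain ⟨x, hx, rfl⟩ := hθK.symm.subset hy
    exact ⟨Comp89.mor_mem_closed hR hθm hx (hK hx).1, (hθm.map_normalizer hPK hθP hx (hK hx).2).2⟩
  obtain ⟨⟨β, hβ⟩, hβe⟩ := exists_aut_of_mor (hθm.restrict hPK) hθP
  set b₁ := β * b * β⁻¹ with hb₁def
  have hb₁ : b₁ ∈ amap p F E₁ E₂ P := by
    have hh := (mem_autGroup_iff F hn.1).1 hβ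
    have h1 := amap_congr hh (range_subtype_comp β) hb
    rwa [Fusion.Alperin.congr_subtype_comp hh] at h1
  have hco₁ : (orderOf b₁).Coprime p := by
    rw [show b₁ = MulAut.conj β b from rfl, MulEquiv.orderOf_eq]
    exact hco
  have hb₁e : ∀ x : P, ((b₁ (β x) : P) : Ω) = θ ((b x : P) : Ω) := fun x => by
    rw [hb₁def, MulAut.mul_apply, MulAut.mul_apply, MulAut.inv_apply_self]
    exact hβe _
  have hext₁ : ∀ g ∈ K₁, ∃ h ∈ K₁, ∀ x : P, ∀ hx : g * (x : Ω) * g⁻¹ ∈ P,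
      ((b₁ ⟨g * (x : Ω) * g⁻¹, hx⟩ : P) : Ω) = h * ((b₁ x : P) : Ω) * h⁻¹ := by
    intro g₁ hg₁
    obtain ⟨g, hg, rfl⟩ := hθK.symm.subset hg₁
    obtain ⟨h, hh, hhe⟩ := hext g hg
    refine ⟨θ h, hθK.subset ⟨h, hh, rfl⟩, fun x₁ hx₁ => ?_⟩
    obtain ⟨x, rfl⟩ := β.surjective x₁
    have hy : g * (x : Ω) * g⁻¹ ∈ P := conj_mem_of_normalizer (hK hg).2 x.2
    have e1 : (⟨θ g * ((β x : P) : Ω) * (θ g)⁻¹, hx₁⟩ : P) = β ⟨g * (x : Ω) * g⁻¹, hy⟩ :=
      Subtype.ext (by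
        show θ g * ((β x : P) : Ω) * (θ g)⁻¹ = _
        rw [hβe, hβe, hθm.map_conj hg (hPK x.2)])
    rw [e1, hb₁e, hb₁e, hhe x hy, hθm.map_conj hh (hPK (b x).2)]
  obtain ⟨a₁, ha₁, ha₁e⟩ := G.extend_core hS hP hn hPK₁ hK₁N hK₁c hb₁ hco₁ hext₁
  obtain ⟨θ', hθ', hθ'l, -, hθ'i⟩ := hθm.exists_inv hθK
  obtain ⟨χ, hχ, hχe⟩ := hθ'
  have hχr : χ.range = K := SetLike.coe_injective (by
    rw [← hθ'i]
    ext y
    constructor
    · rintro ⟨x, rfl⟩; exact ⟨x, x.2, (hχe x).symm⟩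
    · rintro ⟨x, hx, rfl⟩; exact ⟨⟨x, hx⟩, hχe _⟩)
  refine ⟨_, amap_congr hχ hχr ha₁, fun x => ?_⟩
  have hx : (Subgroup.inclusion hPK x) =
      isoOf hχ hχr (Subgroup.inclusion hPK₁ ⟨θ x, hθmem x x.2⟩) := by
    refine Subtype.ext ?_
    rw [isoOf_apply, hχe]
    exact (hθ'l x (hPK x.2)).symm
  rw [hx]
  show ((isoOf hχ hχr (a₁ ((isoOf hχ hχr).symm (isoOf hχ hχr _))) : K) : Ω) = _
  rw [MulEquiv.symm_apply_apply, isoOf_apply, hχe, ha₁e,
    show (⟨θ x, hθmem x x.2⟩ : P) = β x from Subtype.ext (hβe x).symm, hb₁e]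
  exact hθ'l _ (hPK (b x).2)

/-- The family is a normal map. -/
theorem Setting.normalMap (G : Setting F E₁ E₂ p) (hS : IsPGroup p S) :
    NormalMap F p (T₁ ⊓ T₂) (amap p F E₁ E₂) where
  saturated := G.hF
  closed := G.closed
  le_aut _ hP := G.amap_le_aut hS hP
  conj _ hφ hr _ ha := amap_congr hφ hr ha
  induced_le _ hP := G.induced_le hS hP
  sylow _ hP hn := G.amap_sylow hS hP hn
  extend hP hn hPK hK _ hb hco hext := G.amap_extend hS hP hn hPK hK hb hco hext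
  top_lift a ha := by
    have hR := G.closed
    have : Finite (T₁ ⊓ T₂ : Subgroup Ω) := finite_of_le hR.1
    have htc : TCentric F (T₁ ⊓ T₂) (T₁ ⊓ T₂) := by
      refine ⟨le_rfl, fun f hf c hc _ => ?_⟩
      have himg := image_eq hf fun x hx => Comp89.mor_mem_closed hR hf hx hx
      exact himg.symm.subset hc
    have hn : F.IsFullyNormalized (T₁ ⊓ T₂) := by
      refine ⟨hR.1, fun Q hQ => ?_⟩
      obtain ⟨f, hf, hfi⟩ := exists_mor_of_isConj hQ
      have himg := image_eq hf fun x hx => Comp89.mor_mem_closed hR hf hx hx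
      have e : Q = T₁ ⊓ T₂ := SetLike.coe_injective (hfi.symm.trans himg)
      rw [e]
    rw [G.amap_eq hS htc hn] at ha
    have hle : amap₀ p F E₁ E₂ (T₁ ⊓ T₂) ≤ liftGroup F E₁ E₂ (T₁ ⊓ T₂) :=
      sup_le (G.induced_le_lift htc) core'_le
    exact ((mem_liftGroup_iff hR.1).1 (hle ha)).2

end CfsgLib.Meet
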