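import Cfsg.Agent.Fus.Focal
import Cfsg.Agent.Fus.NormalCentralizer.Tools
import Cfsg.Agent.Fus.Comp89.Steps

/-!
Facts on finite groups: the hyperfocal subgroup theorem as a bound, and images of Sylow subgroups.
-/

set_option autoImplicit false

namespace CfsgLib.Meet

open Cfsg Cfsg.FusionSystem CfsgLib.Fus

variable {H : Type*} [Group H] [Finite H] {p : ℕ} [Fact p.Prime]

/-- A bound on `X ∩ O^p(H)` from the commutators of `p'`-elements with normalized subgroups of the
Sylow subgroup `X`. -/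
theorem inf_pResidual_le (X : Sylow p H) {X₀ : Subgroup H}
    (h : ∀ Y : Subgroup H, Y ≤ (X : Subgroup H) → ∀ b : H, (orderOf b).Coprime p →
      (∀ y ∈ Y, b * y * b⁻¹ ∈ Y) → ∀ y ∈ Y, y⁻¹ * (b * y * b⁻¹) ∈ X₀) :
    (X : Subgroup H) ⊓ Cfsg.pResidual p H ≤ X₀ := by
  rw [← hyperfocal_group_eq X]
  refine Comp89.hyperfocal_le_iff_displ _ fun Y hY a ha hco y => ?_
  obtain ⟨g, hg⟩ := (mem_autGroup_group_iff hY).1 ha
  obtain ⟨k, n, -, hn, hgn, hk⟩ := NormalCent.exists_coprime_exponent (p := p) g hco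
  have hak : a ^ k = a := hk a rfl
  have hpow : ∀ (i : ℕ) (z : Y), (((a ^ i) z : Y) : H) = g ^ i * (z : H) * (g ^ i)⁻¹ := by
    intro i
    induction i with
    | zero => intro z; simp
    | succ i ih => intro z; rw [pow_succ, MulAut.mul_apply, ih, hg, pow_succ]; group
  have hb : ∀ z : Y, ((a z : Y) : H) = g ^ k * (z : H) * (g ^ k)⁻¹ := fun z => by
    rw [← hpow k z, hak]
  rw [hb]
  exact h Y hY (g ^ k) (hn.coprime_dvd_left (orderOf_dvd_of_pow_eq_one hgn))
    (fun z hz => hb ⟨z, hz⟩ ▸ (a ⟨z, hz⟩).2) y y.2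

/-- A `p`-subgroup of the image containing the image of a Sylow subgroup is that image. -/
theorem map_sylow_eq {A : Type*} [Group A] (f : H →* A) (U : Sylow p H) {V : Subgroup A}
    (hV : IsPGroup p V) (hVr : V ≤ f.range) (hUV : (U : Subgroup H).map f ≤ V) :
    V = (U : Subgroup H).map f := by
  refine le_antisymm (fun v hv => ?_) hUV
  let U' : Sylow p f.range := U.mapSurjective f.rangeRestrict_surjective
  have hle : (U' : Subgroup f.range) ≤ V.subgroupOf f.range := by
    rw [Sylow.coe_mapSurjective]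
    rintro _ ⟨u, hu, rfl⟩
    exact hUV ⟨u, hu, rfl⟩
  have h1 := U'.is_maximal' (hV.comap_of_injective _ (Subgroup.subtype_injective _)) hle
  have h2 : (⟨v, hVr hv⟩ : f.range) ∈ V.comap f.range.subtype := hv
  rw [h1, Sylow.coe_mapSurjective] at h2
  obtain ⟨u, hu, hue⟩ := h2
  exact ⟨u, hu, congrArg Subtype.val hue⟩

/-- A `p`-subgroup with `p`-elements in a subgroup `U`: the criterion for being a Sylow subgroup. -/
theorem exists_sylow_of_le {U : Subgroup H} (hU : IsPGroup p U)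
    (h : ∀ V : Subgroup H, IsPGroup p V → U ≤ V → V ≤ U) : ∃ X : Sylow p H, (X : Subgroup H) = U := by
  obtain ⟨X, hX⟩ := hU.exists_le_sylow
  exact ⟨X, le_antisymm (h X X.isPGroup' hX) hX⟩

end CfsgLib.Meet
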