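import Cfsg.Agent.Fus.Meet.Stab
import Cfsg.Agent.Fus.NormalCentralizer.Closed

/-!
The hyperfocal bound: `O^p` of the lifted common automizer meets `Aut_S(P)` inside
`Aut_{T₁ ⊓ T₂}(P)`.
-/

set_option autoImplicit false

namespace CfsgLib.Meet

open Cfsg Cfsg.FusionSystem CfsgLib.Fus CfsgLib.NormalCent CfsgLib.Fus.Generated

variable {Ω : Type*} [Group Ω] {S T T₁ T₂ P : Subgroup Ω} {F : Cfsg.FusionSystem S}
  {E₁ : Cfsg.FusionSystem T₁} {E₂ : Cfsg.FusionSystem T₂} {p : ℕ}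

/-- The common automizer is normal in `Aut_F(P)`. -/
theorem Setting.common_conj (K : Setting F E₁ E₂ p) (hP₁ : P ≤ T₁) (hP₂ : P ≤ T₂)
    {a b : MulAut P} (ha : a ∈ common E₁ E₂ P) (hb : b ∈ F.autGroup P) :
    b * a * b⁻¹ ∈ common E₁ E₂ P := by
  have hh := (mem_autGroup_iff F (hP₁.trans K.w₁.2.2.2.1.1)).1 hb
  have h₁ := NormalOverSylow.congr_mem_of_invariant K.w₁.2.2 hP₁ hh (range_subtype_comp b) ha.1
  have h₂ := NormalOverSylow.congr_mem_of_invariant K.w₂.2.2 hP₂ hh (range_subtype_comp b) ha.2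
  rw [Fusion.Alperin.congr_subtype_comp hh] at h₁ h₂
  exact ⟨h₁, h₂⟩

/-- The displacement of an inducer under an extension of a lift lies in a strongly closed subgroup
inducing the same automorphism of `P`. -/
theorem displacement_mem (hT : F.StronglyClosed T) (hPT : P ≤ T) {L : Subgroup Ω} {f : Ω → Ω}
    (hf : Mor F L f) (hCL : centralizerIn S P ≤ L)
    (hc : ∀ c ∈ centralizerIn S P, c⁻¹ * f c ∈ P) {s : Ω} (hsS : s ∈ S) (hsL : s ∈ L) {t : Ω}
    (ht : t ∈ T) (hts : ∀ x ∈ P, s * x * s⁻¹ = t * x * t⁻¹) :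
    s⁻¹ * f s ∈ T := by
  set c := t⁻¹ * s with hcdef
  have hcC : c ∈ centralizerIn S P := by
    refine ⟨S.mul_mem (S.inv_mem (hT.1 ht)) hsS, fun x hx => ?_⟩
    have h := hts x hx
    calc x * c = t⁻¹ * (t * x * t⁻¹) * s := by rw [hcdef]; group
      _ = t⁻¹ * (s * x * s⁻¹) * s := by rw [h]
      _ = c * x := by rw [hcdef]; group
  have htL : t ∈ L := by
    have : t = s * c⁻¹ := by rw [hcdef]; group
    rw [this]
    exact L.mul_mem hsL (L.inv_mem (hCL hcC))
  have hs : s = t * c := by rw [hcdef]; group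
  have h1 : s⁻¹ * f s = c⁻¹ * (t⁻¹ * f t) * c⁻¹⁻¹ * (c⁻¹ * f c) := by
    rw [hs, hf.map_mul htL (hCL hcC)]
    group
  rw [h1]
  refine T.mul_mem ?_ (hPT (hc c hcC))
  exact hT.2 T le_rfl _ (F.conj_mem hT.1 (S.inv_mem hcC.1))
    ⟨_, T.mul_mem (T.inv_mem ht) (Comp89.mor_mem_closed hT hf htL ht)⟩

/-- The hyperfocal bound. -/
theorem Setting.core_inf_le [Finite S] [Fact p.Prime] (K : Setting F E₁ E₂ p) (hS : IsPGroup p S)
    (hP : F.IsFullyNormalized P) (hP₁ : P ≤ T₁) (hP₂ : P ≤ T₂) {a : MulAut P}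
    (ha : a ∈ core' p F E₁ E₂ P) (haS : a ∈ Cfsg.autInducedBy S P) :
    a ∈ Cfsg.autInducedBy (T₁ ⊓ T₂) P := by
  have hF := K.w₁.2.1
  have hPc := fullyCentralized_of_fullyNormalized hS hF hP
  set C := centralizerIn S P with hC
  set W := P ⊔ C with hW
  have hWS : W ≤ S := sup_le hP.1 (centralizerIn_le P)
  have := finite_of_le hWS
  have := finite_mulAut W
  have := finite_of_le hP.1
  have := finite_mulAut P
  set G := stab F W P
  obtain ⟨ρ, hρ⟩ := exists_res (F := F) hWS (le_sup_left : P ≤ W)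
  let H : Subgroup G :=
    { carrier := {g | ((ρ g : F.autGroup P) : MulAut P) ∈ common E₁ E₂ P ∧
        ∀ x : W, (x : Ω) ∈ C → (x : Ω)⁻¹ * ((((g : F.autGroup W) : MulAut W) x : W) : Ω) ∈ P}
      one_mem' := ⟨by rw [map_one]; exact one_mem _, fun x _ => by simp⟩
      mul_mem' := fun {g h} hg hh => ⟨by rw [map_mul]; exact mul_mem hg.1 hh.1, fun x hx => by
        have h1 := mul_mem (hh.2 x hx)
          (hg.2 (((h : F.autGroup W) : MulAut W) x) (stab_cent hP.1 h x hx))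
        rw [mul_assoc, mul_inv_cancel_left] at h1
        exact h1⟩
      inv_mem' := fun {g} hg => ⟨by rw [map_inv]; exact inv_mem hg.1, fun x hx => by
        have h1 := inv_mem (hg.2 ((((g⁻¹ : G) : F.autGroup W) : MulAut W) x)
          (stab_cent hP.1 g⁻¹ x hx))
        have e : ((g : F.autGroup W) : MulAut W) ((((g⁻¹ : G) : F.autGroup W) : MulAut W) x) = x :=
          ((g : F.autGroup W) : MulAut W).apply_symm_apply x
        rw [e, mul_inv_rev, inv_inv] at h1
        exact h1⟩ }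
  have hHn : H.Normal := by
    refine ⟨fun h hh g => ⟨?_, fun x hx => ?_⟩⟩
    · rw [map_mul, map_mul, map_inv]
      exact K.common_conj hP₁ hP₂ hh.1 (ρ g).2
    · set y := (((g⁻¹ : G) : F.autGroup W) : MulAut W) x with hy
      have hyC : (y : Ω) ∈ C := stab_cent hP.1 g⁻¹ x hx
      have e : ((g : F.autGroup W) : MulAut W) y = x :=
        ((g : F.autGroup W) : MulAut W).apply_symm_apply x
      have h2 := (g.2 (y⁻¹ * ((h : F.autGroup W) : MulAut W) y)).2 (hh.2 y hyC)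
      rw [map_mul, map_inv, e] at h2
      exact h2
  obtain ⟨XN, hXN⟩ := exists_sylow_stab hS hF hP
  obtain ⟨X, hX⟩ := sylow_inf_normal XN H
  set X₀ : Subgroup H := (((Cfsg.autInducedBy (T₁ ⊓ T₂) W).subgroupOf (F.autGroup W)).subgroupOf
    G).subgroupOf H with hX₀
  have hbound : (X : Subgroup H) ⊓ Cfsg.pResidual p H ≤ X₀ := by
    refine inf_pResidual_le X fun Y hY b _ hbY y hy => ?_
    have hXA : ∀ z ∈ (X : Subgroup H), ((((z : G) : F.autGroup W) : MulAut W)) ∈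
        Cfsg.autInducedBy S W := fun z hz => by
      have h1 : (z : G) ∈ (XN : Subgroup G) ⊓ H := hX ▸ ⟨z, hz, rfl⟩
      have h2 := h1.1
      rw [hXN] at h2
      exact h2
    obtain ⟨s, hs, hse⟩ := mem_autInducedBy_iff.1 (hXA y (hY hy))
    have hsW : s ∈ normalizerIn S W := ⟨hs, mem_normalizer_of_aut hse⟩
    obtain ⟨t, ht, hte⟩ := mem_autInducedBy_iff.1 (hXA _ (hY (hbY y hy)))
    obtain ⟨f, hf, hfe, hfi⟩ := exists_mor_of_aut hWS ((b : G) : F.autGroup W)
    set bW : MulAut W := (((b : G) : F.autGroup W) : MulAut W) with hbW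
    let Ls : Subgroup Ω :=
      { carrier := {l | l ∈ normalizerIn S W ∧ ∃ t ∈ S, ∀ x ∈ W, f (l * x * l⁻¹) = t * f x * t⁻¹}
        one_mem' := ⟨one_mem _, 1, S.one_mem, fun x _ => by simp⟩
        mul_mem' := fun {u v} hu hv => by
          obtain ⟨t, ht, hte⟩ := hu.2
          obtain ⟨r, hr, hre⟩ := hv.2
          refine ⟨mul_mem hu.1 hv.1, t * r, S.mul_mem ht hr, fun x hx => ?_⟩
          have h1 := hte _ (conj_mem_of_normalizer hv.1.2 hx)
          rw [hre x hx] at h1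
          rw [show u * v * x * (u * v)⁻¹ = u * (v * x * v⁻¹) * u⁻¹ by group, h1]
          group
        inv_mem' := fun {u} hu => by
          obtain ⟨t, ht, hte⟩ := hu.2
          refine ⟨inv_mem hu.1, t⁻¹, S.inv_mem ht, fun x hx => ?_⟩
          have h1 := hte _ (conj_mem_of_normalizer (Subgroup.inv_mem _ hu.1.2) hx)
          rw [show u * (u⁻¹ * x * u⁻¹⁻¹) * u⁻¹ = x by group] at h1
          rw [h1]
          group }
    have hconj : ∀ x : W, f (s * (x : Ω) * s⁻¹) = t * f x * t⁻¹ := by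
      intro x
      have h1 := hte (bW x)
      have h2 : ((((b * y * b⁻¹ : H) : G) : F.autGroup W) : MulAut W) (bW x) =
          bW ((((y : G) : F.autGroup W) : MulAut W) x) := by
        show bW ((((y : G) : F.autGroup W) : MulAut W) (bW⁻¹ (bW x))) = _
        rw [MulAut.inv_apply_self]
      rw [h2, ← hfe, ← hfe x, hse x] at h1
      exact h1
    set L := W ⊔ Subgroup.zpowers s with hL
    have hWL : W ≤ L := le_sup_left
    have hsL : s ∈ L := Subgroup.mem_sup_right (Subgroup.mem_zpowers s)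
    have hLs : L ≤ Ls := sup_le (fun x hx =>
      ⟨le_normalizerIn hWS hx, f x, hf.mem hx, fun z hz => hf.map_conj hx hz⟩)
      (Subgroup.zpowers_le.2 ⟨hsW, t, ht, fun x hx => hconj ⟨x, hx⟩⟩)
    obtain ⟨ψ, hψ, hψe⟩ := hf.exists_ext hfi (receptive_sup hS hF hPc) hWL
      (fun l hl => (hLs hl).1) fun l hl => (hLs hl).2
    have hψc : ∀ c ∈ C, c⁻¹ * ψ c ∈ P := fun c hc => by
      rw [hψe c (Subgroup.mem_sup_right hc), hfe ⟨c, Subgroup.mem_sup_right hc⟩]
      exact b.2.2 ⟨c, Subgroup.mem_sup_right hc⟩ hc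
    have hsP : ∀ x : P, ((((ρ (y : G) : F.autGroup P) : MulAut P) x : P) : Ω) =
        s * (x : Ω) * s⁻¹ := fun x => (hρ _ x).trans (hse _)
    have hρS : ((ρ (y : G) : F.autGroup P) : MulAut P) ∈ Cfsg.autInducedBy S P :=
      mem_autInducedBy_iff.2 ⟨s, hs, hsP⟩
    have hdisp : ∀ {T : Subgroup Ω} {E : Cfsg.FusionSystem T}, E.IsWeaklyNormalIn F p → P ≤ T →
        ((ρ (y : G) : F.autGroup P) : MulAut P) ∈ E.autGroup P → s⁻¹ * ψ s ∈ T := by
      intro T E hE hPT hy'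
      obtain ⟨t', ht', ht'e⟩ :=
        mem_autInducedBy_iff.1 (exists_inducer hS hE hPT hP hy' hρS)
      refine displacement_mem hE.2.2.2.1 hPT hψ (le_sup_right.trans hWL) hψc hs hsL ht'
        fun x hx => ?_
      rw [← hsP ⟨x, hx⟩]
      exact ht'e ⟨x, hx⟩
    have hd : s⁻¹ * ψ s ∈ T₁ ⊓ T₂ :=
      ⟨hdisp K.w₁ hP₁ y.2.1.1, hdisp K.w₂ hP₂ y.2.1.2⟩
    refine mem_autInducedBy_iff.2 ⟨_, hd, fun x => ?_⟩
    show (((((y : G) : F.autGroup W) : MulAut W)⁻¹
      (bW ((((y : G) : F.autGroup W) : MulAut W) (bW⁻¹ x))) : W) : Ω) = _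
    set u := bW⁻¹ x with hu
    have hx : x = bW u := (bW.apply_symm_apply x).symm
    set v := bW ((((y : G) : F.autGroup W) : MulAut W) u) with hv
    have h1 : (v : Ω) = ψ s * (x : Ω) * (ψ s)⁻¹ := by
      rw [hv, ← hfe, hse, hx, ← hfe, ← hψe _ u.2, ← hψ.map_conj hsL (hWL u.2)]
      refine (hψe _ ?_).symm
      rw [← hse]
      exact SetLike.coe_mem _
    have h2 := hse ((((y : G) : F.autGroup W) : MulAut W)⁻¹ v)
    rw [MulAut.apply_inv_self] at h2
    rw [h1] at h2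
    calc _ = s⁻¹ * (s * (((((y : G) : F.autGroup W) : MulAut W)⁻¹ v : W) : Ω) * s⁻¹) * s := by
          group
      _ = _ := by rw [← h2]; group
  -- restriction to `P`
  let res : H →* MulAut P := (F.autGroup P).subtype.comp (ρ.comp H.subtype)
  have hlift : ∀ g ∈ liftGroup F E₁ E₂ P, ∃ h : H, res h = g := by
    intro g hg
    obtain ⟨hgc, f, hf, hfa, hfc⟩ := (mem_liftGroup_iff hP.1).1 hg
    obtain ⟨b, hb⟩ := exists_aut hf le_rfl (LiftsQ.mapsTo hf hfa hfc)
    have hbs : b ∈ G := fun x => by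
      rw [hb x]
      constructor
      · intro hx
        obtain ⟨z, hz⟩ := g.surjective ⟨_, hx⟩
        have h1 : f z = f x := by rw [hfa z, hz]
        rw [← hf.injOn (Subgroup.mem_sup_left z.2) x.2 h1]
        exact z.2
      · intro hx
        rw [hfa ⟨x, hx⟩]
        exact SetLike.coe_mem _
    have hres : ((ρ ⟨b, hbs⟩ : F.autGroup P) : MulAut P) = g :=
      MulEquiv.ext fun x => Subtype.ext (((hρ ⟨b, hbs⟩ x).trans (hb _)).trans (hfa x))
    refine ⟨⟨⟨b, hbs⟩, hres.symm ▸ hgc, fun x hx => ?_⟩, hres⟩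
    rw [hb x]
    exact hfc x hx
  set U : Subgroup H := Cfsg.pResidual p H with hU
  have hU' : core' p F E₁ E₂ P ≤ U.map res := by
    unfold core'
    rw [Subgroup.map_le_iff_le_comap]
    refine (Subgroup.closure_le _).2 fun g hg => ?_
    obtain ⟨h, hh⟩ := hlift g g.2
    have hg' : (orderOf (g : MulAut P)).Coprime p := by rwa [Subgroup.orderOf_coe]
    obtain ⟨k, n, -, hn, hhn, hk⟩ := exists_coprime_exponent (p := p) h hg'
    refine ⟨h ^ k, Subgroup.subset_closure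
      (hn.coprime_dvd_left (orderOf_dvd_of_pow_eq_one hhn)), ?_⟩
    rw [map_pow, hh]
    exact hk _ rfl
  have hUn : U.Normal := normal_closure_coprime
  obtain ⟨Xp, hXp⟩ := sylow_inf_normal X U
  have himage : ((Xp : Subgroup U).map U.subtype).map res ≤ Cfsg.autInducedBy (T₁ ⊓ T₂) P := by
    rw [hXp]
    rintro _ ⟨h, hh, rfl⟩
    obtain ⟨r, hr, hre⟩ := mem_autInducedBy_iff.1 (hbound hh)
    exact mem_autInducedBy_iff.2 ⟨r, hr, fun x => (hρ _ x).trans (hre _)⟩
  refine himage ?_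
  rw [Subgroup.map_map]
  have hTS : T₁ ⊓ T₂ ≤ S := inf_le_left.trans K.w₁.2.2.2.1.1
  rw [← map_sylow_eq (res.comp U.subtype) Xp (V := Cfsg.autInducedBy S P ⊓ U.map res)
    ((isPGroup_autInducedBy hS P).to_le inf_le_left) ?_ ?_]
  · exact ⟨haS, hU' ha⟩
  · rw [MonoidHom.range_comp, Subgroup.range_subtype]
    exact inf_le_right
  · refine le_inf ?_ ?_
    · rw [← Subgroup.map_map]
      exact himage.trans (autInducedBy_mono hTS)
    · rw [← Subgroup.map_map]
      exact Subgroup.map_mono (Subgroup.map_subtype_le _)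

end CfsgLib.Meet
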