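import Cfsg.Agent.Fus.NormalCentralizer.Exists
import Cfsg.Agent.Eq.Def_FusionSystem

/-!
Fully centralized subgroups: images of centralizers, centric joins, and transport of lifts.
-/

set_option autoImplicit false

namespace CfsgLib.Meet

open Cfsg Cfsg.FusionSystem CfsgLib.Fus CfsgLib.NormalCent

variable {Ω : Type*} [Group Ω] {S T : Subgroup Ω} {F : Cfsg.FusionSystem S}
  {P Q Q' N : Subgroup Ω} {f : Ω → Ω}

/-- The image of the centralizer of a fully centralized subgroup under a map defined on it. -/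
theorem image_centralizer [Finite S] (hQ : F.IsFullyCentralized Q) (hf : Mor F N f) (hQN : Q ≤ N)
    (hCN : centralizerIn S Q ≤ N) (hQ' : f '' (Q : Set Ω) = Q') :
    f '' (centralizerIn S Q : Set Ω) = centralizerIn S Q' ∧ F.IsFullyCentralized Q' := by
  have hconj : F.IsConj Q Q' := (hf.restrict hQN).isConj hQ'
  have hsub : f '' (centralizerIn S Q : Set Ω) ⊆ centralizerIn S Q' := by
    rintro _ ⟨c, hc, rfl⟩
    exact map_centralizerIn hf hQN hQ' (hCN hc) hc
  obtain ⟨D, hD, -⟩ := hf.exists_img hCN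
  have hcard := hf.card_img hCN hD
  have : Finite (centralizerIn S Q') := finite_of_le (centralizerIn_le Q')
  have hDle : D ≤ centralizerIn S Q' := fun y hy => hsub (hD.symm ▸ hy)
  have e : D = centralizerIn S Q' :=
    Subgroup.eq_of_le_of_card_ge hDle (le_of_le_of_eq (hQ.2 Q' hconj) hcard.symm)
  refine ⟨e ▸ hD, isConj_le_right hconj, fun R hR => ?_⟩
  rw [← e, hcard]
  exact hQ.2 R (isConj_trans hconj hR)

/-- An isomorphism onto a fully centralized subgroup extends to the join with the centralizer. -/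
theorem exists_ext_centralizer [Finite S] {p : ℕ} [Fact p.Prime] (hS : IsPGroup p S)
    (hF : F.IsSaturated p) (hQ' : F.IsFullyCentralized Q') (hf : Mor F Q f)
    (hfi : f '' (Q : Set Ω) = Q') :
    ∃ g, Mor F (Q ⊔ centralizerIn S Q) g ∧ ∀ x ∈ Q, g x = f x := by
  have hQS : Q ≤ S := hf.le
  refine hf.exists_ext hfi (receptive_of_fullyCentralized hS hF hQ') le_sup_left
    (sup_le (le_normalizerIn hQS) (centralizerIn_le_normalizerIn Q)) fun l hl => ?_
  obtain ⟨ψ, hψ, e⟩ := hf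
  refine Subgroup.closure_induction (p := fun l _ => l ∈ normalizerIn S Q ∧ ∃ t ∈ S, ∀ x ∈ Q,
    f (l * x * l⁻¹) = t * f x * t⁻¹) ?_ ?_ ?_ ?_
    (show l ∈ Subgroup.closure ((Q : Set Ω) ∪ centralizerIn S Q) by
      rwa [Subgroup.closure_union, Subgroup.closure_eq, Subgroup.closure_eq]) |>.2
  · rintro l (hlQ | hlC)
    · exact ⟨le_normalizerIn hQS hlQ, f l, Mor.mem ⟨ψ, hψ, e⟩ hlQ,
        fun x hx => Mor.map_conj ⟨ψ, hψ, e⟩ hlQ hx⟩
    · refine ⟨centralizerIn_le_normalizerIn Q hlC, 1, S.one_mem, fun x hx => ?_⟩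
      rw [← hlC.2 x hx]
      simp
  · exact ⟨one_mem _, 1, S.one_mem, fun x _ => by simp⟩
  · rintro u v - - ⟨hu, s, hs, hse⟩ ⟨hv, r, hr', hre⟩
    refine ⟨mul_mem hu hv, s * r, S.mul_mem hs hr', fun x hx => ?_⟩
    have h1 := hse _ (conj_mem_of_normalizer hv.2 hx)
    rw [hre x hx] at h1
    have e1 : u * v * x * (u * v)⁻¹ = u * (v * x * v⁻¹) * u⁻¹ := by group
    rw [e1, h1]
    group
  · rintro u - ⟨hu, s, hs, hse⟩
    refine ⟨inv_mem hu, s⁻¹, S.inv_mem hs, fun x hx => ?_⟩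
    have h1 := hse _ (conj_mem_of_normalizer (Subgroup.inv_mem _ hu.2) hx)
    rw [show u * (u⁻¹ * x * u⁻¹⁻¹) * u⁻¹ = x by group] at h1
    rw [h1]
    group

/-- The join of a fully centralized subgroup with its centralizer is centric. -/
theorem isCentric_sup [Finite S] (hQ : F.IsFullyCentralized Q) :
    F.IsCentric (Q ⊔ centralizerIn S Q) := by
  refine ⟨sup_le hQ.1 (centralizerIn_le Q), fun W hW => ?_⟩
  obtain ⟨g, hg, hgW⟩ := exists_mor_of_isConj hW
  obtain ⟨Q₁, hQ₁, -⟩ := hg.exists_img (le_sup_left : Q ≤ Q ⊔ centralizerIn S Q)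
  obtain ⟨hC, -⟩ := image_centralizer hQ hg le_sup_left le_sup_right hQ₁
  have hQ₁W : Q₁ ≤ W := fun y hy => by
    show y ∈ (W : Set Ω)
    rw [← hgW]
    exact Set.image_mono (fun x hx => Subgroup.mem_sup_left hx) (hQ₁.symm.subset hy)
  intro z hz
  show z ∈ (W : Set Ω)
  rw [← hgW]
  exact Set.image_mono (fun x hx => Subgroup.mem_sup_right hx)
    (hC.symm.subset (show z ∈ centralizerIn S Q₁ from centralizerIn_antitone hQ₁W hz))

/-- The join of a fully centralized subgroup with its centralizer is receptive. -/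
theorem receptive_sup [Finite S] {p : ℕ} [Fact p.Prime] (hS : IsPGroup p S) (hF : F.IsSaturated p)
    (hQ : F.IsFullyCentralized Q) : F.IsReceptive (Q ⊔ centralizerIn S Q) := by
  have hc := isCentric_sup hQ
  set W := Q ⊔ centralizerIn S Q
  refine receptive_of_fullyCentralized hS hF ⟨hc.1, fun W' hW' => ?_⟩
  obtain ⟨g, hg, hgi⟩ := exists_mor_of_isConj hW'
  obtain ⟨g', hg', hgl, hgr, hgi'⟩ := hg.exists_inv hgi
  have : Finite (centralizerIn S W) := finite_of_le (centralizerIn_le _)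
  refine hg'.card_le (hc.2 W' hW') fun z hz => ?_
  have hzW : z ∈ W' := hc.2 W' hW' hz
  exact map_centralizerIn hg' le_rfl hgi' hzW hz

/-- Lifts are transported between fully centralized subgroups. -/
theorem liftsQ_transport [Finite S] {p : ℕ} [Fact p.Prime] (hS : IsPGroup p S)
    (hF : F.IsSaturated p) (hQ : F.IsFullyCentralized Q) {φ : Q →* Ω} (hφ : φ ∈ F.Hom Q)
    (hr : φ.range = Q') (hQ' : F.IsFullyCentralized Q') {a : MulAut Q} (ha : LiftsQ F Q a) :
    LiftsQ F Q' (MulAut.congr (isoOf hφ hr) a) := by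
  obtain ⟨f, hf, hfa, hfc⟩ := ha
  obtain ⟨g₀, hg₀, hg₀e⟩ := exists_mor hφ
  have hg₀i : g₀ '' (Q : Set Ω) = Q' := by
    rw [← hr]
    ext y
    constructor
    · rintro ⟨x, hx, rfl⟩; exact ⟨⟨x, hx⟩, (hg₀e ⟨x, hx⟩).symm⟩
    · rintro ⟨x, rfl⟩; exact ⟨x, x.2, hg₀e x⟩
  obtain ⟨g, hg, hge⟩ := exists_ext_centralizer hS hF hQ' hg₀ hg₀i
  have hgi : g '' (Q : Set Ω) = Q' := by rw [← hg₀i]; exact Set.image_congr fun x hx => hge x hx
  obtain ⟨hC, -⟩ := image_centralizer hQ hg le_sup_left le_sup_right hgi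
  have hgφ : ∀ x : Q, g x = φ x := fun x => (hge x x.2).trans (hg₀e x)
  obtain ⟨W, hW, -⟩ := hg.exists_img (le_refl (Q ⊔ centralizerIn S Q))
  obtain ⟨g', hg', hgl, hgr, hgi'⟩ := hg.exists_inv hW
  have hWle : Q' ⊔ centralizerIn S Q' ≤ W := by
    refine sup_le (fun y hy => ?_) fun y hy => ?_
    · show y ∈ (W : Set Ω)
      rw [← hW]
      exact Set.image_mono (fun x hx => Subgroup.mem_sup_left hx) (hgi.symm.subset hy)
    · show y ∈ (W : Set Ω)
      rw [← hW]
      exact Set.image_mono (fun x hx => Subgroup.mem_sup_right hx) (hC.symm.subset hy)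
  have hm := LiftsQ.mapsTo hf hfa hfc
  have hg'm : ∀ y ∈ Q' ⊔ centralizerIn S Q', g' y ∈ Q ⊔ centralizerIn S Q := fun y hy =>
    hgi'.subset ⟨y, hWle hy, rfl⟩
  refine ⟨g ∘ (f ∘ g'), ((hg'.restrict hWle).comp hf hg'm).comp hg fun y hy => hm _ (hg'm y hy),
    fun y => ?_, fun y hy => ?_⟩
  · obtain ⟨x, rfl⟩ := (isoOf hφ hr).surjective y
    show g (f (g' _)) = _
    rw [isoOf_apply, ← hgφ x, hgl _ (Subgroup.mem_sup_left x.2), hfa, hgφ (a x)]
    show φ (a x) = ((isoOf hφ hr (a ((isoOf hφ hr).symm (isoOf hφ hr x))) : Q') : Ω)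
    rw [MulEquiv.symm_apply_apply, isoOf_apply]
  · obtain ⟨c, hc, rfl⟩ := hC.symm.subset hy
    show (g c)⁻¹ * g (f (g' (g c))) ∈ Q'
    have hcW : c ∈ Q ⊔ centralizerIn S Q := Subgroup.mem_sup_right hc
    rw [hgl c hcW, ← hg.map_inv hcW, ← hg.map_mul (Subgroup.inv_mem _ hcW) (hm c hcW)]
    exact hgi.subset ⟨_, hfc c hc, rfl⟩

end CfsgLib.Meet
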