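import Cfsg.Agent.Fus.Meet.Hyper

/-!
The family `A P = Aut_R(P) O^p(liftGroup P)`, `R = T₁ ⊓ T₂`, at fully normalized subgroups,
transported to all conjugates.
-/

set_option autoImplicit false

namespace CfsgLib.Meet

open Cfsg Cfsg.FusionSystem CfsgLib.Fus CfsgLib.NormalCent

variable {Ω : Type*} [Group Ω] {S T₁ T₂ P P' P'' : Subgroup Ω} {F : Cfsg.FusionSystem S}
  {E₁ : Cfsg.FusionSystem T₁} {E₂ : Cfsg.FusionSystem T₂} {p : ℕ}

/-- The value at fully normalized subgroups. -/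
def amap₀ (p : ℕ) (F : Cfsg.FusionSystem S) (E₁ : Cfsg.FusionSystem T₁)
    (E₂ : Cfsg.FusionSystem T₂) (P : Subgroup Ω) : Subgroup (MulAut P) :=
  Cfsg.autInducedBy (T₁ ⊓ T₂) P ⊔ core' p F E₁ E₂ P

/-- The family. -/
noncomputable def amap (p : ℕ) (F : Cfsg.FusionSystem S) (E₁ : Cfsg.FusionSystem T₁)
    (E₂ : Cfsg.FusionSystem T₂) (P : Subgroup Ω) : Subgroup (MulAut P) :=
  ⨅ (P' : Subgroup Ω) (φ : P →* Ω) (hφ : φ ∈ F.Hom P) (hr : φ.range = P')
    (_ : F.IsFullyNormalized P'),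
    (amap₀ p F E₁ E₂ P').comap (MulAut.congr (isoOf hφ hr)).toMonoidHom

theorem mem_amap {a : MulAut P} : a ∈ amap p F E₁ E₂ P ↔
    ∀ (P' : Subgroup Ω) (φ : P →* Ω) (hφ : φ ∈ F.Hom P) (hr : φ.range = P'),
      F.IsFullyNormalized P' → MulAut.congr (isoOf hφ hr) a ∈ amap₀ p F E₁ E₂ P' := by
  simp only [amap, Subgroup.mem_iInf, Subgroup.mem_comap]
  exact Iff.rfl

/-- The composite of two isomorphisms of the system. -/
theorem congr_comp {φ : P →* Ω} (hφ : φ ∈ F.Hom P) (hr : φ.range = P') {ψ : P' →* Ω}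
    (hψ : ψ ∈ F.Hom P') (hr' : ψ.range = P'') :
    ∃ (χ : P →* Ω) (hχ : χ ∈ F.Hom P) (hχr : χ.range = P''), ∀ a : MulAut P,
      MulAut.congr (isoOf hχ hχr) a = MulAut.congr (isoOf hψ hr') (MulAut.congr (isoOf hφ hr) a) := by
  set e := (isoOf hφ hr).trans (isoOf hψ hr')
  have hχ : P''.subtype.comp e.toMonoidHom ∈ F.Hom P :=
    hom_of_comp F (isoOf_mem hφ hr) hψ (fun x => (isoOf hφ hr x).2) fun x => rfl
  refine ⟨_, hχ, range_subtype_comp e, fun a => ?_⟩
  rw [show isoOf hχ (range_subtype_comp e) = e from MulEquiv.ext fun x => Subtype.ext rfl]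
  rfl

/-- Inducers of a map of normalizers carrying `T₁ ⊓ T₂` into itself. -/
theorem congr_autInducedBy {R : Subgroup Ω} (hR : F.StronglyClosed R) {φ : P →* Ω}
    (hφ : φ ∈ F.Hom P) (hr : φ.range = P') {N : Subgroup Ω} {g : Ω → Ω} (hg : Mor F N g)
    (hPN : P ≤ N) (hge : ∀ x : P, g x = φ x) (hN : normalizerIn R P ≤ N) {a : MulAut P}
    (ha : a ∈ Cfsg.autInducedBy R P) :
    MulAut.congr (isoOf hφ hr) a ∈ Cfsg.autInducedBy R P' := by
  obtain ⟨r, hr', hre⟩ := mem_autInducedBy_iff.1 ha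
  have hrN : r ∈ N := hN ⟨hr', mem_normalizer_of_aut hre⟩
  refine mem_autInducedBy_iff.2 ⟨g r, Comp89.mor_mem_closed hR hg hrN hr', fun y => ?_⟩
  obtain ⟨x, rfl⟩ := (isoOf hφ hr).surjective y
  show ((isoOf hφ hr (a ((isoOf hφ hr).symm (isoOf hφ hr x))) : P') : Ω) = _
  rw [MulEquiv.symm_apply_apply, isoOf_apply, isoOf_apply, ← hge, ← hge, hre,
    hg.map_conj hrN (hPN x.2)]

theorem Setting.hF (K : Setting F E₁ E₂ p) : F.IsSaturated p := K.w₁.2.1

theorem Setting.closed (K : Setting F E₁ E₂ p) : F.StronglyClosed (T₁ ⊓ T₂) :=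
  ⟨inf_le_left.trans K.w₁.2.2.2.1.1, fun _ hQ φ hφ x =>
    ⟨K.w₁.2.2.2.1.2 _ (hQ.trans inf_le_left) φ hφ x,
      K.w₂.2.2.2.1.2 _ (hQ.trans inf_le_right) φ hφ x⟩⟩

theorem Setting.le_S (K : Setting F E₁ E₂ p) (hP : P ≤ T₁) : P ≤ S :=
  hP.trans K.w₁.2.2.2.1.1

/-- Inducers in `T₁ ⊓ T₂` lie in the lifted common automizer. -/
theorem Setting.induced_le_lift (K : Setting F E₁ E₂ p) [Finite S]
    (hP : TCentric F (T₁ ⊓ T₂) P) :
    Cfsg.autInducedBy (T₁ ⊓ T₂) P ≤ liftGroup F E₁ E₂ P := by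
  intro a ha
  obtain ⟨r, hr, hre⟩ := mem_autInducedBy_iff.1 ha
  have hPS := K.le_S (hP.1.trans inf_le_left)
  have hrS : r ∈ S := K.closed.1 hr
  refine (mem_liftGroup_iff hPS).2 ⟨⟨?_, ?_⟩, fun x => r * x * r⁻¹,
    mor_conj (sup_le hPS (centralizerIn_le P)) hrS, fun x => (hre x).symm, fun c hc => ?_⟩
  · exact mem_autGroup_of_apply E₁ (E₁.conj_mem (hP.1.trans inf_le_left) hr.1) hre
  · exact mem_autGroup_of_apply E₂ (E₂.conj_mem (hP.1.trans inf_le_right) hr.2) hre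
  · have hT : c⁻¹ * (r * c * r⁻¹) ∈ T₁ ⊓ T₂ := by
      have h2 := mul_mem (K.closed.2 (T₁ ⊓ T₂) le_rfl _
        (F.conj_mem K.closed.1 (S.inv_mem hc.1)) ⟨r, hr⟩) (inv_mem hr)
      show c⁻¹ * (r * c * r⁻¹) ∈ T₁ ⊓ T₂
      have h3 : c⁻¹ * (r * c * r⁻¹) = c⁻¹ * r * c⁻¹⁻¹ * r⁻¹ := by group
      rw [h3]
      exact h2
    have hC := Subgroup.mul_mem (centralizerIn S P) (Subgroup.inv_mem _ hc)
      (le_normalizer_centralizerIn ⟨hrS, mem_normalizer_of_aut hre⟩ hc)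
    exact tcentric_id hP K.closed.1 ⟨hT, hC.2⟩

theorem Setting.common_congr (K : Setting F E₁ E₂ p) (hP : P ≤ T₁ ⊓ T₂) {φ : P →* Ω}
    (hφ : φ ∈ F.Hom P) (hr : φ.range = P') {a : MulAut P} (ha : a ∈ common E₁ E₂ P) :
    MulAut.congr (isoOf hφ hr) a ∈ common E₁ E₂ P' :=
  ⟨NormalOverSylow.congr_mem_of_invariant K.w₁.2.2 (hP.trans inf_le_left) hφ hr ha.1,
    NormalOverSylow.congr_mem_of_invariant K.w₂.2.2 (hP.trans inf_le_right) hφ hr ha.2⟩

variable [Finite S] [Fact p.Prime]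

theorem Setting.lift_congr (K : Setting F E₁ E₂ p) (hS : IsPGroup p S) (hP : P ≤ T₁ ⊓ T₂)
    (hc : F.IsFullyCentralized P) {φ : P →* Ω} (hφ : φ ∈ F.Hom P) (hr : φ.range = P')
    (hc' : F.IsFullyCentralized P') {a : MulAut P} (ha : a ∈ liftGroup F E₁ E₂ P) :
    MulAut.congr (isoOf hφ hr) a ∈ liftGroup F E₁ E₂ P' := by
  have hm := (mem_liftGroup_iff hc.1).1 ha
  exact (mem_liftGroup_iff hc'.1).2
    ⟨K.common_congr hP hφ hr hm.1, liftsQ_transport hS K.hF hc hφ hr hc' hm.2⟩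

theorem Setting.core_congr (K : Setting F E₁ E₂ p) (hS : IsPGroup p S) (hP : P ≤ T₁ ⊓ T₂)
    (hc : F.IsFullyCentralized P) {φ : P →* Ω} (hφ : φ ∈ F.Hom P) (hr : φ.range = P')
    (hc' : F.IsFullyCentralized P') :
    core' p F E₁ E₂ P ≤ (core' p F E₁ E₂ P').comap (MulAut.congr (isoOf hφ hr)).toMonoidHom := by
  unfold core'
  rw [Subgroup.map_le_iff_le_comap]
  refine (Subgroup.closure_le _).2 fun g hg => ?_
  refine mem_core' (K.lift_congr hS hP hc hφ hr hc' g.2) ?_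
  show (orderOf (MulAut.congr (isoOf hφ hr) (g : MulAut P))).Coprime p
  rw [MulEquiv.orderOf_eq, Subgroup.orderOf_coe]
  exact hg

/-- `amap₀` is normalized by `Aut_F(P)`. -/
theorem Setting.amap₀_conj (K : Setting F E₁ E₂ p) (hS : IsPGroup p S)
    (hP : TCentric F (T₁ ⊓ T₂) P) (hn : F.IsFullyNormalized P) {α : MulAut P}
    (hα : α ∈ F.autGroup P) {a : MulAut P} (ha : a ∈ amap₀ p F E₁ E₂ P) :
    α * a * α⁻¹ ∈ amap₀ p F E₁ E₂ P := by
  have hF := K.hF
  have hc := fullyCentralized_of_fullyNormalized hS hF hn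
  have := finite_of_le hn.1
  have := finite_mulAut P
  set A := amap₀ p F E₁ E₂ P
  let D : Subgroup (F.autGroup P) :=
    (Subgroup.normalizer (A : Set (MulAut P))).subgroupOf (F.autGroup P)
  set J := (liftGroup F E₁ E₂ P).subgroupOf (F.autGroup P) with hJ
  have hJn : J.Normal := by
    refine ⟨fun j hj b => ?_⟩
    have hh := (mem_autGroup_iff F hn.1).1 b.2
    have h1 := K.lift_congr hS hP.1 hc hh (range_subtype_comp _) hc hj
    rw [Fusion.Alperin.congr_subtype_comp hh] at h1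
    exact h1
  obtain ⟨⟨-, X, hX⟩, hrec⟩ := fullyNormalized_props hS hF hn
  obtain ⟨U, hU⟩ := sylow_inf_normal X J
  have hnorm : ∀ n : F.autGroup P, n ∈ Subgroup.normalizer
      (((U : Subgroup J).map J.subtype : Subgroup (F.autGroup P)) : Set (F.autGroup P)) →
      ∀ x ∈ A, (n : MulAut P) * x * (n : MulAut P)⁻¹ ∈ A := by
    intro n hn' x hx
    refine (sup_le (fun y hy => ?_) (fun y hy => ?_) : A ≤
      A.comap (MulAut.conj (n : MulAut P)).toMonoidHom) hx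
    · show (n : MulAut P) * y * (n : MulAut P)⁻¹ ∈ A
      obtain ⟨f, hf, hfe, hfi⟩ := exists_mor_of_aut hn.1 n
      set N := normalizerIn (T₁ ⊓ T₂) P
      have hNS : N ≤ normalizerIn S P := fun z hz => ⟨K.closed.1 hz.1, hz.2⟩
      have hPN : P ≤ N := le_normalizerIn hP.1
      obtain ⟨ψ, hψ, hψe⟩ := hf.exists_ext hfi hrec hPN hNS fun l hl => by
        have hlA : (conjAut hl.2 : MulAut P) ∈ Cfsg.autInducedBy (T₁ ⊓ T₂) P :=
          conjAut_mem_autInducedBy hl.2 hl.1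
        have hlS := autInducedBy_mono K.closed.1 hlA
        have hlU : (⟨conjAut hl.2, autInducedBy_le_autGroup F hn.1 hlS⟩ : F.autGroup P) ∈
            (U : Subgroup J).map J.subtype := by
          rw [hU]
          exact ⟨by rw [hX]; exact hlS, K.induced_le_lift hP hlA⟩
        have h1 := (Subgroup.mem_normalizer_iff.1 hn' _).1 hlU
        rw [hU] at h1
        have h2 := h1.1
        rw [hX] at h2
        obtain ⟨t, ht, hte⟩ := mem_autInducedBy_iff.1 h2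
        refine ⟨t, ht, fun z hz => ?_⟩
        have h3 := hte ((n : MulAut P) ⟨z, hz⟩)
        rw [show f z = _ from hfe ⟨z, hz⟩, ← h3]
        rw [show f (l * z * l⁻¹) = _ from hfe (conjAut hl.2 ⟨z, hz⟩)]
        show _ = (((n : MulAut P) (conjAut hl.2 ((n : MulAut P)⁻¹ ((n : MulAut P) ⟨z, hz⟩))) : P) : Ω)
        rw [MulAut.inv_apply_self]
      have h1 := congr_autInducedBy K.closed ((mem_autGroup_iff F hn.1).1 n.2)
        (range_subtype_comp _) hψ hPN (fun z => (hψe z z.2).trans (hfe z)) le_rfl hy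
      rw [Fusion.Alperin.congr_subtype_comp] at h1
      exact Subgroup.mem_sup_left h1
    · have hh := (mem_autGroup_iff F hn.1).1 n.2
      have h1 := K.core_congr hS hP.1 hc hh (range_subtype_comp _) hc hy
      rw [Subgroup.mem_comap] at h1
      change MulAut.congr _ y ∈ _ at h1
      rw [Fusion.Alperin.congr_subtype_comp hh] at h1
      exact Subgroup.mem_sup_right h1
  have hNU : Subgroup.normalizer
      (((U : Subgroup J).map J.subtype : Subgroup (F.autGroup P)) : Set (F.autGroup P)) ≤ D := by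
    intro n hn'
    refine Subgroup.mem_normalizer_iff.2 fun x => ⟨hnorm n hn' x, fun hx => ?_⟩
    have h1 := hnorm n⁻¹ (Subgroup.inv_mem _ hn') _ hx
    simpa [mul_assoc] using h1
  have hJD : J ≤ D := by
    have h : D.subgroupOf J = ⊤ := by
      refine eq_top_of_sylow_of_coprime U (fun u hu => ?_) fun g hg => ?_
      · exact hNU (Subgroup.le_normalizer ⟨u, hu, rfl⟩)
      · have hgc : (((g : F.autGroup P)) : MulAut P) ∈ core' p F E₁ E₂ P :=
          mem_core' g.2 (by rwa [Subgroup.orderOf_coe, Subgroup.orderOf_coe])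
        show _ ∈ Subgroup.normalizer (A : Set (MulAut P))
        exact Subgroup.le_normalizer (Subgroup.mem_sup_right hgc)
    exact Subgroup.subgroupOf_eq_top.1 h
  have hD : D = ⊤ := top_unique ((Sylow.normalizer_sup_eq_top U).ge.trans (sup_le hNU hJD))
  have : (⟨α, hα⟩ : F.autGroup P) ∈ D := hD ▸ Subgroup.mem_top _
  exact (Subgroup.mem_normalizer_iff.1 this a).1 ha

/-- Transport of `amap₀` between fully normalized subgroups. -/
theorem Setting.amap₀_congr (K : Setting F E₁ E₂ p) (hS : IsPGroup p S)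
    (hP : TCentric F (T₁ ⊓ T₂) P) (hP' : TCentric F (T₁ ⊓ T₂) P') (hn : F.IsFullyNormalized P)
    (hn' : F.IsFullyNormalized P') {φ : P →* Ω} (hφ : φ ∈ F.Hom P) (hr : φ.range = P')
    {a : MulAut P} (ha : a ∈ amap₀ p F E₁ E₂ P) :
    MulAut.congr (isoOf hφ hr) a ∈ amap₀ p F E₁ E₂ P' := by
  have hF := K.hF
  refine (sup_le (fun b hb => ?_) (fun b hb => ?_) : amap₀ p F E₁ E₂ P ≤
    (amap₀ p F E₁ E₂ P').comap (MulAut.congr (isoOf hφ hr)).toMonoidHom) ha
  · obtain ⟨φ', hφ', hr', ψ, hψ, hψe⟩ :=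
      exists_normalizer_map_fn hS hF hn' ⟨φ, hφ, hr⟩
    obtain ⟨g, hg, hge⟩ := exists_mor hψ
    have hsub : normalizerIn (T₁ ⊓ T₂) P ≤ normalizerIn S P := fun x hx => ⟨K.closed.1 hx.1, hx.2⟩
    have hPN : P ≤ normalizerIn S P := le_normalizerIn hn.1
    have h1 : MulAut.congr (isoOf hφ' hr') b ∈ Cfsg.autInducedBy (T₁ ⊓ T₂) P' :=
      congr_autInducedBy K.closed hφ' hr' hg hPN
        (fun x => (hge ⟨x, hPN x.2⟩).trans (hψe x (hPN x.2))) hsub hb
    set β : MulAut P' := (isoOf hφ' hr').symm.trans (isoOf hφ hr) with hβ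
    have hβF : β ∈ F.autGroup P' := mem_autGroup_of_mem F
      (hom_of_comp F (isoOf_symm_mem hφ' hr') hφ (fun y => ((isoOf hφ' hr').symm y).2)
        fun y => rfl)
    have h2 := K.amap₀_conj hS hP' hn' hβF (Subgroup.mem_sup_left h1)
    show MulAut.congr (isoOf hφ hr) b ∈ amap₀ p F E₁ E₂ P'
    convert h2 using 1
    refine MulEquiv.ext fun y => ?_
    simp [hβ, MulAut.inv_def]
  · exact Subgroup.mem_sup_right (K.core_congr hS hP.1
      (fullyCentralized_of_fullyNormalized hS hF hn) hφ hr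
      (fullyCentralized_of_fullyNormalized hS hF hn') hb)

omit [Finite S] [Fact p.Prime] in
theorem Setting.tcentric_congr (K : Setting F E₁ E₂ p) (hP : TCentric F (T₁ ⊓ T₂) P)
    {φ : P →* Ω} (hφ : φ ∈ F.Hom P) (hr : φ.range = P') : TCentric F (T₁ ⊓ T₂) P' := by
  obtain ⟨g, hg, hge⟩ := exists_mor hφ
  have hi : g '' (P : Set Ω) = P' := by
    rw [← hr]
    ext y
    constructor
    · rintro ⟨x, hx, rfl⟩; exact ⟨⟨x, hx⟩, (hge ⟨x, hx⟩).symm⟩
    · rintro ⟨x, rfl⟩; exact ⟨x, x.2, hge x⟩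
  have hgm : ∀ x ∈ P, g x ∈ P' := fun x hx => hi.subset ⟨x, hx, rfl⟩
  refine ⟨fun y hy => ?_, fun f hf c hc hcomm => ?_⟩
  · obtain ⟨x, hx, rfl⟩ := hi.symm.subset hy
    exact Comp89.mor_mem_closed K.closed hg hx (hP.1 hx)
  · obtain ⟨x, hx, hxc⟩ := hP.2 (f ∘ g) (hg.comp hf hgm) c hc fun x hx => hcomm _ (hgm x hx)
    exact ⟨g x, hgm x hx, hxc⟩

/-- At fully normalized subgroups the family takes the value `amap₀`. -/
theorem Setting.amap_eq (K : Setting F E₁ E₂ p) (hS : IsPGroup p S)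
    (hP : TCentric F (T₁ ⊓ T₂) P) (hn : F.IsFullyNormalized P) :
    amap p F E₁ E₂ P = amap₀ p F E₁ E₂ P := by
  refine le_antisymm (fun a ha => ?_) fun a ha => ?_
  · have h := mem_amap.1 ha P P.subtype (subtype_mem F hn.1) P.range_subtype hn
    have e : isoOf (subtype_mem F hn.1) P.range_subtype = MulEquiv.refl P :=
      MulEquiv.ext fun x => Subtype.ext rfl
    rw [e] at h
    exact h
  · exact mem_amap.2 fun P' φ hφ hr hn' =>
      K.amap₀_congr hS hP (K.tcentric_congr hP hφ hr) hn hn' hφ hr ha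

omit [Finite S] [Fact p.Prime] in
/-- The family is transported along maps of the system. -/
theorem amap_congr {φ : P →* Ω} (hφ : φ ∈ F.Hom P) (hr : φ.range = P') {a : MulAut P}
    (ha : a ∈ amap p F E₁ E₂ P) : MulAut.congr (isoOf hφ hr) a ∈ amap p F E₁ E₂ P' := by
  refine mem_amap.2 fun P'' ψ hψ hr' hn => ?_
  obtain ⟨χ, hχ, hχr, he⟩ := congr_comp hφ hr hψ hr'
  rw [← he]
  exact mem_amap.1 ha P'' χ hχ hχr hn

theorem Setting.induced_le (K : Setting F E₁ E₂ p) (hS : IsPGroup p S)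
    (hP : TCentric F (T₁ ⊓ T₂) P) : Cfsg.autInducedBy (T₁ ⊓ T₂) P ≤ amap p F E₁ E₂ P := by
  intro a ha
  refine mem_amap.2 fun P' φ hφ hr hn' => ?_
  have hPS := K.le_S (hP.1.trans inf_le_left)
  obtain ⟨φ', hφ', hr', ψ, hψ, hψe⟩ :=
    exists_normalizer_map_fn hS K.hF hn' ⟨φ, hφ, hr⟩
  obtain ⟨g, hg, hge⟩ := exists_mor hψ
  have hsub : normalizerIn (T₁ ⊓ T₂) P ≤ normalizerIn S P := fun x hx => ⟨K.closed.1 hx.1, hx.2⟩
  have hPN : P ≤ normalizerIn S P := le_normalizerIn hPS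
  have h1 := congr_autInducedBy K.closed hφ' hr' hg hPN
    (fun x => (hge ⟨x, hPN x.2⟩).trans (hψe x (hPN x.2))) hsub ha
  set β : MulAut P' := (isoOf hφ' hr').symm.trans (isoOf hφ hr) with hβ
  have hβF : β ∈ F.autGroup P' := mem_autGroup_of_mem F
    (hom_of_comp F (isoOf_symm_mem hφ' hr') hφ (fun y => ((isoOf hφ' hr').symm y).2) fun y => rfl)
  have h2 := K.amap₀_conj hS (K.tcentric_congr hP hφ hr) hn' hβF (Subgroup.mem_sup_left h1)
  convert h2 using 1
  refine MulEquiv.ext fun y => ?_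
  simp [hβ, MulAut.inv_def]

omit [Fact p.Prime] in
theorem Setting.amap_le_aut (K : Setting F E₁ E₂ p) (hS : IsPGroup p S)
    (hP : TCentric F (T₁ ⊓ T₂) P) : amap p F E₁ E₂ P ≤ F.autGroup P := by
  intro a ha
  obtain ⟨P', hc, hn'⟩ := exists_fullyNormalized F (K.le_S (hP.1.trans inf_le_left))
  obtain ⟨φ, hφ, hr⟩ := hc
  have h1 := mem_amap.1 ha P' φ hφ hr hn'
  have hle : amap₀ p F E₁ E₂ P' ≤ F.autGroup P' := by
    refine sup_le ((autInducedBy_mono K.closed.1).trans (autInducedBy_le_autGroup F hn'.1)) ?_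
    exact (core'_le.trans liftGroup_le_common).trans
      (inf_le_left.trans (autGroup_mono K.w₁.2.2.1 P'))
  have h2 := congr_symm_mem_autGroup hφ hr (hle h1)
  rwa [MulEquiv.symm_apply_apply] at h2

theorem Setting.amap_sylow (K : Setting F E₁ E₂ p) (hS : IsPGroup p S)
    (hP : TCentric F (T₁ ⊓ T₂) P) (hn : F.IsFullyNormalized P) :
    ∃ X : Sylow p (amap p F E₁ E₂ P), (X : Subgroup (amap p F E₁ E₂ P)) =
      (Cfsg.autInducedBy (T₁ ⊓ T₂) P).subgroupOf (amap p F E₁ E₂ P) := by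
  have := finite_of_le hn.1
  have := finite_mulAut P
  have hRS : IsPGroup p (T₁ ⊓ T₂ : Subgroup Ω) := hS.to_le K.closed.1
  have hp := (isPGroup_autInducedBy hRS P).comap_of_injective _
    (Subgroup.subtype_injective (amap p F E₁ E₂ P))
  refine exists_sylow_of_le hp fun V hV hle v hv => ?_
  rw [Subgroup.mem_subgroupOf]
  have hvA : (v : MulAut P) ∈ amap₀ p F E₁ E₂ P := (K.amap_eq hS hP hn) ▸ v.2
  obtain ⟨⟨-, X, hX⟩, -⟩ := fullyNormalized_props hS K.hF hn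
  have hnorm : ∀ a ∈ Cfsg.autInducedBy (T₁ ⊓ T₂) P,
      a ∈ Subgroup.normalizer (core' p F E₁ E₂ P : Set (MulAut P)) := by
    intro a ha
    have hc := fullyCentralized_of_fullyNormalized hS K.hF hn
    have key : ∀ a ∈ F.autGroup P, ∀ z ∈ core' p F E₁ E₂ P,
        a * z * a⁻¹ ∈ core' p F E₁ E₂ P := by
      intro a ha z hz
      have hh := (mem_autGroup_iff F hn.1).1 ha
      have h1 := K.core_congr hS hP.1 hc hh (range_subtype_comp _) hc hz
      rw [Subgroup.mem_comap] at h1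
      change MulAut.congr _ z ∈ _ at h1
      rwa [Fusion.Alperin.congr_subtype_comp hh] at h1
    have haF := (autInducedBy_mono K.closed.1).trans (autInducedBy_le_autGroup F hn.1) ha
    refine Subgroup.mem_normalizer_iff.2 fun z => ⟨key a haF z, fun hz => ?_⟩
    have h1 := key a⁻¹ (inv_mem haF) _ hz
    simpa [mul_assoc] using h1
  obtain ⟨r, hr, c, hc, hrc⟩ :
      ∃ r ∈ Cfsg.autInducedBy (T₁ ⊓ T₂) P, ∃ c ∈ core' p F E₁ E₂ P, r * c = (v : MulAut P) := by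
    have h2 : (v : MulAut P) ∈ (((Cfsg.autInducedBy (T₁ ⊓ T₂) P ⊔ core' p F E₁ E₂ P :
        Subgroup (MulAut P))) : Set (MulAut P)) := hvA
    rw [Subgroup.coe_mul_of_left_le_normalizer_right _ _ hnorm] at h2
    exact Set.mem_mul.1 h2
  have hrA := K.induced_le hS hP hr
  have hcA : c ∈ amap p F E₁ E₂ P := (K.amap_eq hS hP hn).symm ▸ Subgroup.mem_sup_right hc
  have hcV : (⟨c, hcA⟩ : amap p F E₁ E₂ P) ∈ V := by
    have h3 := V.mul_mem (V.inv_mem (hle (show (⟨r, hrA⟩ : amap p F E₁ E₂ P) ∈ _ from hr))) hv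
    convert h3 using 1
    refine Subtype.ext ?_
    show c = r⁻¹ * (v : MulAut P)
    rw [← hrc, inv_mul_cancel_left]
  -- `c` is a `p`-element of `core'`, hence conjugate into `Aut_S(P)`, hence induced by `T₁ ⊓ T₂`
  have hcF : c ∈ F.autGroup P := K.amap_le_aut hS hP hcA
  set C₀ := (core' p F E₁ E₂ P).subgroupOf (F.autGroup P) with hC₀
  have hC₀n : C₀.Normal := by
    refine ⟨fun z hz b => ?_⟩
    have hc' := fullyCentralized_of_fullyNormalized hS K.hF hn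
    have hh := (mem_autGroup_iff F hn.1).1 b.2
    have h1 := K.core_congr hS hP.1 hc' hh (range_subtype_comp _) hc' hz
    rw [Subgroup.mem_comap] at h1
    change MulAut.congr _ _ ∈ _ at h1
    rw [Fusion.Alperin.congr_subtype_comp hh] at h1
    exact h1
  obtain ⟨U, hU⟩ := sylow_inf_normal X C₀
  set V₀ : Subgroup C₀ :=
    ((V.map (amap p F E₁ E₂ P).subtype).subgroupOf (F.autGroup P)).subgroupOf C₀ with hV₀
  have hV₀p : IsPGroup p V₀ :=
    ((hV.map _).comap_of_injective _ (Subgroup.subtype_injective _)).comap_of_injective _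
      (Subgroup.subtype_injective _)
  have hUV : (U : Subgroup C₀) ≤ V₀ := by
    intro u hu
    have h1 : (u : F.autGroup P) ∈ (X : Subgroup (F.autGroup P)) ⊓ C₀ := hU ▸ ⟨u, hu, rfl⟩
    have h2 := h1.1
    rw [hX] at h2
    have h3 := K.core_inf_le hS hn (hP.1.trans inf_le_left) (hP.1.trans inf_le_right) u.2 h2
    exact ⟨⟨_, K.induced_le hS hP h3⟩, hle h3, rfl⟩
  have hV₀U := U.is_maximal' hV₀p hUV
  have hcU : (⟨⟨c, hcF⟩, hc⟩ : C₀) ∈ (U : Subgroup C₀) := by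
    rw [← hV₀U]
    exact ⟨⟨c, hcA⟩, hcV, rfl⟩
  have h4 : (⟨c, hcF⟩ : F.autGroup P) ∈ (X : Subgroup (F.autGroup P)) ⊓ C₀ := hU ▸ ⟨_, hcU, rfl⟩
  have h5 := h4.1
  rw [hX] at h5
  rw [← hrc]
  exact mul_mem hr (K.core_inf_le hS hn (hP.1.trans inf_le_left) (hP.1.trans inf_le_right) hc h5)

end CfsgLib.Meet
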