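import Cfsg.Agent.Fus.Meet.Lift
import Cfsg.Agent.Fus.PPrimeExist.Normal
import Cfsg.Agent.Fus.Comp89.Mono
import Cfsg.Agent.Eq.Def_Transfer

/-!
Two weakly normal subsystems: the common automizers of the subgroups of `T₁ ⊓ T₂`, and those of
them with a lift to the centralizer.
-/

set_option autoImplicit false

namespace CfsgLib.Meet

open Cfsg Cfsg.FusionSystem CfsgLib.Fus CfsgLib.NormalCent

variable {Ω : Type*} [Group Ω] {S T T₁ T₂ P : Subgroup Ω} {F : Cfsg.FusionSystem S}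
  {E₁ : Cfsg.FusionSystem T₁} {E₂ : Cfsg.FusionSystem T₂} {p : ℕ}

/-- The two weakly normal subsystems. -/
structure Setting (F : Cfsg.FusionSystem S) (E₁ : Cfsg.FusionSystem T₁)
    (E₂ : Cfsg.FusionSystem T₂) (p : ℕ) : Prop where
  w₁ : E₁.IsWeaklyNormalIn F p
  w₂ : E₂.IsWeaklyNormalIn F p

/-- The common automizer. -/
def common (E₁ : Cfsg.FusionSystem T₁) (E₂ : Cfsg.FusionSystem T₂) (P : Subgroup Ω) :
    Subgroup (MulAut P) :=
  E₁.autGroup P ⊓ E₂.autGroup P

/-- The common automorphisms with a lift to the centralizer moving it inside the cosets of `P`. -/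
def liftGroup (F : Cfsg.FusionSystem S) (E₁ : Cfsg.FusionSystem T₁) (E₂ : Cfsg.FusionSystem T₂)
    (P : Subgroup Ω) : Subgroup (MulAut P) :=
  Subgroup.closure {a | a ∈ common E₁ E₂ P ∧ LiftsQ F P a}

theorem liftGroup_le_common : liftGroup F E₁ E₂ P ≤ common E₁ E₂ P :=
  (Subgroup.closure_le _).2 fun _ h => h.1

theorem mem_liftGroup_iff [Finite S] (hP : P ≤ S) {a : MulAut P} :
    a ∈ liftGroup F E₁ E₂ P ↔ a ∈ common E₁ E₂ P ∧ LiftsQ F P a := by
  refine ⟨fun ha => ⟨liftGroup_le_common ha, ?_⟩, fun h => Subgroup.subset_closure h⟩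
  have : Finite P := finite_of_le hP
  have := finite_mulAut P
  refine Subgroup.closure_induction (p := fun a _ => LiftsQ F P a) (fun x hx => hx.2)
    (LiftsQ.one hP) (fun x y _ _ hx hy => hx.mul hy) (fun x _ hx => ?_) ha
  have h1 : x⁻¹ = x ^ (orderOf x - 1) := inv_eq_of_mul_eq_one_right (by
    rw [← pow_succ', Nat.sub_add_cancel (orderOf_pos x), pow_orderOf_eq_one])
  rw [h1]
  exact LiftsQ.pow hP hx _

/-- The elements of `O^p` of the lifted common automizer. -/
def core' (p : ℕ) (F : Cfsg.FusionSystem S) (E₁ : Cfsg.FusionSystem T₁)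
    (E₂ : Cfsg.FusionSystem T₂) (P : Subgroup Ω) : Subgroup (MulAut P) :=
  (Cfsg.pResidual p (liftGroup F E₁ E₂ P)).map (liftGroup F E₁ E₂ P).subtype

theorem core'_le : core' p F E₁ E₂ P ≤ liftGroup F E₁ E₂ P := Subgroup.map_subtype_le _

theorem mem_core' {a : MulAut P} (ha : a ∈ liftGroup F E₁ E₂ P) (hc : (orderOf a).Coprime p) :
    a ∈ core' p F E₁ E₂ P :=
  ⟨⟨a, ha⟩, Subgroup.subset_closure (by
    show (orderOf (⟨a, ha⟩ : liftGroup F E₁ E₂ P)).Coprime p
    rwa [Subgroup.orderOf_mk]), rfl⟩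

/-- A subgroup fully normalized in `F` is fully normalized in a subsystem over a strongly closed
subgroup containing it. -/
theorem fullyNormalized_sub [Finite S] [Fact p.Prime] (hS : IsPGroup p S) (hF : F.IsSaturated p)
    (hT : F.StronglyClosed T) {E : Cfsg.FusionSystem T} (hE : E.IsSubsystemOf F) (hPT : P ≤ T)
    (hP : F.IsFullyNormalized P) : E.IsFullyNormalized P := by
  refine ⟨hPT, fun U hU => ?_⟩
  have hUF : F.IsConj P U := by
    obtain ⟨φ, hφ, hr⟩ := hU
    exact ⟨φ, hE P hφ, hr⟩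
  obtain ⟨φ, -, hφr, ψ, hψ, hψe⟩ := exists_normalizer_map_fn hS hF hP (isConj_symm hUF)
  have : Finite T := finite_of_le hT.1
  have : Finite (normalizerIn T P) := finite_of_le (normalizerIn_le P)
  obtain ⟨g, hg, hge⟩ := exists_mor hψ
  have hsub : normalizerIn T U ≤ normalizerIn S U := fun x hx => ⟨hT.1 hx.1, hx.2⟩
  have hUN : U ≤ normalizerIn S U := le_normalizerIn (isConj_le_right hUF)
  have hgU : g '' (U : Set Ω) = P := by
    rw [← hφr]
    ext y
    constructor
    · rintro ⟨x, hx, rfl⟩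
      exact ⟨⟨x, hx⟩, ((hge ⟨x, hUN hx⟩).trans (hψe ⟨x, hx⟩ (hUN hx))).symm⟩
    · rintro ⟨x, rfl⟩
      exact ⟨x, x.2, (hge ⟨x, hUN x.2⟩).trans (hψe x (hUN x.2))⟩
  exact hg.card_le hsub fun x hx =>
    ⟨Comp89.mor_mem_closed hT hg (hsub hx) hx.1,
      (hg.map_normalizer hUN hgU (hsub hx) hx.2).2⟩

/-- An automorphism induced by `S` and lying in the automizer of a weakly normal subsystem over `T`
is induced by `T`. -/
theorem exists_inducer [Finite S] [Fact p.Prime] (hS : IsPGroup p S) {E : Cfsg.FusionSystem T}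
    (hE : E.IsWeaklyNormalIn F p) (hPT : P ≤ T) (hP : F.IsFullyNormalized P) {a : MulAut P}
    (haE : a ∈ E.autGroup P) (haS : a ∈ Cfsg.autInducedBy S P) :
    a ∈ Cfsg.autInducedBy T P := by
  obtain ⟨hEs, hF, hsub, hT, -⟩ := hE
  have : Finite T := finite_of_le hT.1
  obtain ⟨⟨-, U, hU⟩, -⟩ :=
    fullyNormalized_props (hS.to_le hT.1) hEs (fullyNormalized_sub hS hF hT hsub hPT hP)
  have hp : IsPGroup p ((Cfsg.autInducedBy S P).subgroupOf (E.autGroup P)) :=
    (isPGroup_autInducedBy hS P).comap_of_injective _ (Subgroup.subtype_injective _)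
  have hle : (U : Subgroup (E.autGroup P)) ≤ (Cfsg.autInducedBy S P).subgroupOf (E.autGroup P) := by
    rw [hU]
    exact Subgroup.comap_mono (autInducedBy_mono hT.1)
  have h1 := U.is_maximal' hp hle
  have h2 : (⟨a, haE⟩ : E.autGroup P) ∈ (Cfsg.autInducedBy S P).subgroupOf (E.autGroup P) := haS
  rw [h1, hU] at h2
  exact h2

end CfsgLib.Meet
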