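import Cfsg.Agent.Fus.Meet.Setting
import Cfsg.Agent.Fus.Meet.Group
import Cfsg.Agent.Fus.Generated
import Cfsg.Agent.Fus.NormalCentralizer.Fix
import Cfsg.Agent.Fus.NormalCentralizer.Subsystem

/-!
The stabilizer of a fully normalized `P` in `Aut_F(P C_S(P))`: `N_S(P)` induces a Sylow subgroup,
and its `p`-elements trivial on `P` are induced by `C_S(P)`.
-/

set_option autoImplicit false

namespace CfsgLib.Meet

open Cfsg Cfsg.FusionSystem CfsgLib.Fus CfsgLib.NormalCent CfsgLib.Fus.Generated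

variable {Ω : Type*} [Group Ω] {S P : Subgroup Ω} {F : Cfsg.FusionSystem S} {p : ℕ}

/-- An element normalizing `P` normalizes `P C_S(P)`. -/
theorem normalizer_sup {s : Ω} (hs : s ∈ normalizerIn S P) :
    s ∈ Subgroup.normalizer ((P ⊔ centralizerIn S P : Subgroup Ω) : Set Ω) := by
  have key : ∀ s ∈ normalizerIn S P, ∀ x ∈ P ⊔ centralizerIn S P,
      s * x * s⁻¹ ∈ P ⊔ centralizerIn S P := by
    intro s hs x hx
    refine (sup_le (fun y hy => ?_) (fun y hy => ?_) : P ⊔ centralizerIn S P ≤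
      (P ⊔ centralizerIn S P).comap (MulAut.conj s).toMonoidHom) hx
    · exact Subgroup.mem_sup_left (conj_mem_of_normalizer hs.2 hy)
    · exact Subgroup.mem_sup_right (le_normalizer_centralizerIn hs hy)
  refine Subgroup.mem_normalizer_iff.2 fun x => ⟨key s hs x, fun hx => ?_⟩
  have h := key s⁻¹ ((normalizerIn S P).inv_mem hs) _ hx
  convert h using 1
  group

/-- A map on `P C_S(P)` fixing `P` pointwise, of `p`-power order, is conjugation by an element of
`C_S(P)`. -/
theorem exists_cent_of_pElement [Finite S] [Fact p.Prime] (hS : IsPGroup p S) (hF : F.IsSaturated p)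
    (hP : F.IsFullyCentralized P) {f : Ω → Ω} (hf : Mor F (P ⊔ centralizerIn S P) f)
    (hfix : ∀ x ∈ P, f x = x) {k : ℕ}
    (hk : ∀ x ∈ P ⊔ centralizerIn S P, f^[p ^ k] x = x) :
    ∃ c ∈ centralizerIn S P, ∀ x ∈ P ⊔ centralizerIn S P, f x = c * x * c⁻¹ := by
  set C := centralizerIn S P with hC
  have hfP : f '' (P : Set Ω) = P := by
    ext y
    constructor
    · rintro ⟨x, hx, rfl⟩; rw [hfix x hx]; exact hx
    · intro hy; exact ⟨y, hy, hfix y hy⟩
  have hfC : ∀ c ∈ C, f c ∈ C := fun c hc =>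
    map_centralizerIn hf le_sup_left hfP (Subgroup.mem_sup_right hc) hc
  have : Finite C := finite_of_le (centralizerIn_le P)
  have := finite_mulAut C
  have hCW : C ≤ P ⊔ C := le_sup_right
  have hle : C ⊔ P ≤ P ⊔ C := by rw [sup_comm]
  obtain ⟨φ, hφ, hφe⟩ := hf.restrict hCW
  have hφ' : φ ∈ (centralizerSystem F P hP.1).Hom C :=
    mem_centralizerHom_of_mor (hf.restrict hle) le_rfl (fun x => hφe x ▸ hfC x x.2)
      (fun x => (hφe x).symm) hfix
  have hf' : Mor (centralizerSystem F P hP.1) C f := ⟨φ, hφ', hφe⟩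
  have hfCi : f '' (C : Set Ω) = C := image_eq hf' hfC
  obtain ⟨a, ha⟩ := exists_aut_of_mor hf' hfCi
  have hak : (a : MulAut C) ^ p ^ k = 1 := MulEquiv.ext fun x => Subtype.ext (by
    rw [← iterate_eq_aut (a := (a : MulAut C)) (fun y => (ha y).symm) (p ^ k) x]
    exact hk x (hCW x.2))
  obtain ⟨c, hc, hce⟩ := mem_autInducedBy_iff.1 (PPrimeExist.mem_inn_of_pElement hS
    (centralizerIn_le P) (centralizerSystem_saturated hS hF hP) a.2 hak)
  refine ⟨c, hc, fun x hx => ?_⟩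
  let K : Subgroup Ω :=
    { carrier := {y | y ∈ P ⊔ C ∧ f y = c * y * c⁻¹}
      one_mem' := ⟨one_mem _, by rw [map_one_of_mor hf]; group⟩
      mul_mem' := fun {y z} hy hz =>
        ⟨mul_mem hy.1 hz.1, by rw [hf.map_mul hy.1 hz.1, hy.2, hz.2]; group⟩
      inv_mem' := fun {y} hy => ⟨inv_mem hy.1, by rw [hf.map_inv hy.1, hy.2]; group⟩ }
  refine ((sup_le (fun y hy => ?_) (fun y hy => ?_) : P ⊔ C ≤ K) hx).2
  · refine ⟨Subgroup.mem_sup_left hy, ?_⟩
    rw [hfix y hy, ← hc.2 y hy, mul_inv_cancel_right]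
  · refine ⟨Subgroup.mem_sup_right hy, ?_⟩
    rw [← ha ⟨y, hy⟩]
    exact hce ⟨y, hy⟩

/-- The elements of the stabilizer of `P` preserve `C_S(P)`. -/
theorem stab_cent [Finite S] (hP : P ≤ S) (g : stab F (P ⊔ centralizerIn S P) P)
    (x : ↥(P ⊔ centralizerIn S P)) (hx : (x : Ω) ∈ centralizerIn S P) :
    ((((g : F.autGroup (P ⊔ centralizerIn S P)) : MulAut _) x :
      ↥(P ⊔ centralizerIn S P)) : Ω) ∈ centralizerIn S P := by
  obtain ⟨f, hf, hfe, -⟩ := exists_mor_of_aut (sup_le hP (centralizerIn_le P))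
    (g : F.autGroup (P ⊔ centralizerIn S P))
  have : Finite P := finite_of_le hP
  have hfP : f '' (P : Set Ω) = P := image_eq (hf.restrict le_sup_left) fun y hy => by
    rw [show f y = _ from hfe ⟨y, Subgroup.mem_sup_left hy⟩]
    exact (g.2 ⟨y, Subgroup.mem_sup_left hy⟩).2 hy
  rw [← hfe x]
  exact map_centralizerIn hf le_sup_left hfP x.2 hx

/-- The automorphisms of `P C_S(P)` induced by `N_S(P)` form a Sylow subgroup of the stabilizer. -/
theorem exists_sylow_stab [Finite S] [Fact p.Prime] (hS : IsPGroup p S) (hF : F.IsSaturated p)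
    (hP : F.IsFullyNormalized P) :
    ∃ X : Sylow p (stab F (P ⊔ centralizerIn S P) P),
      (X : Subgroup (stab F (P ⊔ centralizerIn S P) P)) =
        ((Cfsg.autInducedBy S (P ⊔ centralizerIn S P)).subgroupOf
          (F.autGroup (P ⊔ centralizerIn S P))).subgroupOf
          (stab F (P ⊔ centralizerIn S P) P) := by
  set W := P ⊔ centralizerIn S P with hW
  have hWS : W ≤ S := sup_le hP.1 (centralizerIn_le P)
  have := finite_of_le hWS
  have := finite_mulAut W
  have := finite_of_le hP.1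
  have := finite_mulAut P
  set G := stab F W P
  obtain ⟨ρ, hρ⟩ := exists_res (F := F) hWS (le_sup_left : P ≤ W)
  set AN : Subgroup G := ((Cfsg.autInducedBy S W).subgroupOf (F.autGroup W)).subgroupOf G with hAN
  refine exists_sylow_of_le (p := p) (U := AN) ?_ fun V hV hle v hv => ?_
  · exact ((isPGroup_autInducedBy hS W).comap_of_injective _
      (Subgroup.subtype_injective _)).comap_of_injective _ (Subgroup.subtype_injective _)
  obtain ⟨⟨-, U, hU⟩, -⟩ := fullyNormalized_props hS hF hP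
  have lift : ∀ s ∈ normalizerIn S P, ∃ g ∈ AN,
      ∀ x : W, ((((g : G) : F.autGroup W) : MulAut W) x : Ω) = s * (x : Ω) * s⁻¹ := by
    intro s hs
    have hn := normalizer_sup (S := S) hs
    have h1 : (conjAut hn : MulAut W) ∈ Cfsg.autInducedBy S W := conjAut_mem_autInducedBy hn hs.1
    refine ⟨⟨⟨conjAut hn, autInducedBy_le_autGroup F hWS h1⟩, fun x => ?_⟩, h1, fun x => rfl⟩
    exact (Subgroup.mem_normalizer_iff.1 hs.2 (x : Ω)).symm
  have hUV : (U : Subgroup (F.autGroup P)) ≤ V.map ρ := by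
    intro u hu
    rw [hU] at hu
    obtain ⟨s, hs, hse⟩ := mem_autInducedBy_iff.1 hu
    obtain ⟨g, hg, hge⟩ := lift s ⟨hs, mem_normalizer_of_aut hse⟩
    refine ⟨g, hle hg, Subtype.ext (MulEquiv.ext fun x => Subtype.ext ?_)⟩
    rw [hρ g x, hge]
    exact (hse x).symm
  have hVeq := U.is_maximal' (hV.map ρ) hUV
  have hρv : ρ v ∈ (U : Subgroup (F.autGroup P)) := hVeq ▸ ⟨v, hv, rfl⟩
  rw [hU] at hρv
  obtain ⟨s, hs, hse⟩ := mem_autInducedBy_iff.1 hρv
  obtain ⟨g, hg, hge⟩ := lift s ⟨hs, mem_normalizer_of_aut hse⟩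
  have hgs : ρ g = ρ v := Subtype.ext (MulEquiv.ext fun x => Subtype.ext (by
    rw [hρ g x, hge]; exact (hse x).symm))
  have hw : v * g⁻¹ ∈ V := V.mul_mem hv (V.inv_mem (hle hg))
  have hρw : ρ (v * g⁻¹) = 1 := by rw [map_mul, map_inv, hgs, mul_inv_cancel]
  obtain ⟨k, hk⟩ := hV ⟨_, hw⟩
  obtain ⟨f, hf, hfe, -⟩ := exists_mor_of_aut hWS ((v * g⁻¹ : G) : F.autGroup W)
  have hfix : ∀ x ∈ P, f x = x := by
    intro x hx
    rw [show f x = _ from hfe ⟨x, Subgroup.mem_sup_left hx⟩]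
    have h1 := hρ (v * g⁻¹) ⟨x, hx⟩
    rw [hρw] at h1
    exact h1.symm
  have hpk : (((v * g⁻¹ : G) : F.autGroup W) : MulAut W) ^ p ^ k = 1 :=
    congrArg (fun z : V => (((z : G) : F.autGroup W) : MulAut W)) hk
  obtain ⟨c, hc, hce⟩ := exists_cent_of_pElement hS hF
    (fullyCentralized_of_fullyNormalized hS hF hP) hf hfix (k := k) fun x hx => by
      rw [iterate_eq_aut hfe _ ⟨x, hx⟩, hpk]
      rfl
  obtain ⟨g', hg', hge'⟩ := lift c (centralizerIn_le_normalizerIn P hc)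
  have e : v * g⁻¹ = g' := Subtype.ext (Subtype.ext (MulEquiv.ext fun x => Subtype.ext (by
    rw [hge', ← hfe x, hce x x.2])))
  rw [← inv_mul_cancel_right v g, e]
  exact AN.mul_mem hg' hg

end CfsgLib.Meet
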